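import Groth.Agent.H80.Divisor.Sections
import Groth.Agent.Lib.Koszul.Stable.LC

/-!
# Čech conditions from local cohomology

The conditions of the formal lifting argument in terms of `H^i_m(A ⧸ f)`, `i ≤ 3`.
-/

set_option autoImplicit false

universe u

open CategoryTheory IsLocalRing
open Groth.Agent.Lib.Koszul.Stable Groth.Agent.Lib.FlatCx

namespace Groth.Agent.H80.Divisor.Weak

open Groth.Agent.H80.Divisor

variable {A : Type u} [CommRing A] (f : A) {ι : Type} (a : ι → A) (K : Type u) [CommRing K]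
  [Algebra A K]

/-- Finiteness of the functions modulo `f`. -/
def GlobFG : Prop :=
  ∃ N : Submodule A K, N.FG ∧
    ∀ z : K, (∀ i, OnM f 1 (a i) z) → ∃ x ∈ N, ∃ r : K, z = x + algebraMap A K f * r

/-- Finiteness of additive one-cocycles with values in `K`. -/
def AddFG : Prop :=
  ∃ N : Submodule A (ι → K), N.FG ∧
    ∀ r : ι → K, (∀ i j, OnM f 1 (a i * a j) (r j - r i)) →
      ∃ x ∈ N, ∃ y : K, ∀ i, OnM f 1 (a i) (r i - x i - y)

/-- A finitely generated complement of a kernel. -/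
theorem exists_fg_complement [IsNoetherianRing A] {P H : Type u} [AddCommGroup P] [Module A P]
    [AddCommGroup H] [Module A H] [Module.Finite A H] (Λ : P →ₗ[A] H) :
    ∃ N : Submodule A P, N.FG ∧ ∀ p : P, ∃ x ∈ N, Λ (p - x) = 0 := by
  classical
  obtain ⟨s, hs⟩ := (IsNoetherian.noetherian (LinearMap.range Λ) :)
  have hpre : ∀ v ∈ (s : Set H), ∃ p, Λ p = v := fun v hv =>
    LinearMap.mem_range.mp (hs ▸ Submodule.subset_span hv)
  choose! pre hpre using hpre
  refine ⟨Submodule.span A (pre '' s), Submodule.fg_span (s.finite_toSet.image _), fun p => ?_⟩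
  have him : Λ '' (pre '' s) = s := by
    ext v
    constructor
    · rintro ⟨_, ⟨v', hv', rfl⟩, rfl⟩; rwa [hpre v' hv']
    · exact fun hv => ⟨pre v, ⟨v, hv, rfl⟩, hpre v hv⟩
  have h1 : Λ p ∈ Submodule.span A (s : Set H) := hs ▸ LinearMap.mem_range_self Λ p
  rw [← him, ← Submodule.map_span] at h1
  obtain ⟨x, hx, hxp⟩ := h1
  exact ⟨x, hx, by rw [map_sub, hxp, sub_self]⟩

variable {f a K}

variable (f K) in
/-- The multiples of `f` in `K`. -/
abbrev Mf : Submodule A K := LinearMap.range (LinearMap.mulLeft A (algebraMap A K f))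

/-- The quotient map of `K` modulo `f`. -/
noncomputable abbrev pf : K →ₗ[A] K ⧸ Mf f K := (Mf f K).mkQ

theorem isUnit_end {c : A} (hc : IsUnit (algebraMap A K c)) :
    IsUnit (algebraMap A (Module.End A (K ⧸ Mf f K)) c) := by
  obtain ⟨u, hu⟩ := hc
  rw [Module.End.isUnit_iff]
  refine ⟨(injective_iff_map_eq_zero _).mpr fun x hx => ?_, fun x => ?_⟩ <;>
    obtain ⟨x, rfl⟩ := (Mf f K).mkQ_surjective x
  · rw [Module.algebraMap_end_apply, ← map_smul, Submodule.mkQ_apply, Submodule.Quotient.mk_eq_zero] at hx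
    obtain ⟨r, hr⟩ := hx
    rw [Submodule.mkQ_apply, Submodule.Quotient.mk_eq_zero]
    refine ⟨↑u⁻¹ * r, ?_⟩
    rw [LinearMap.mulLeft_apply, Algebra.smul_def, ← hu] at hr
    rw [LinearMap.mulLeft_apply, mul_left_comm, hr, Units.inv_mul_cancel_left]
  · refine ⟨pf (↑u⁻¹ * x), ?_⟩
    rw [Module.algebraMap_end_apply, ← map_smul, Algebra.smul_def, ← hu, Units.mul_inv_cancel_left]

theorem pf_eq_iff {x y : K} :
    pf (f := f) x = pf (f := f) y ↔ ∃ r, x = y + algebraMap A K f * r := by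
  rw [Submodule.mkQ_apply, Submodule.mkQ_apply, Submodule.Quotient.eq, LinearMap.mem_range]
  simp only [LinearMap.mulLeft_apply]
  exact ⟨fun ⟨r, hr⟩ => ⟨r, by linear_combination -hr⟩, fun ⟨r, hr⟩ => ⟨r, by linear_combination -hr⟩⟩

variable (f K) in
/-- Functions modulo `f` in `K` modulo `f`. -/
noncomputable def rk (b : A) : Cech.L b (A ⧸ Ideal.span {f}) →ₗ[A] K ⧸ Mf f K := by
  classical
  exact if h : IsUnit (algebraMap A K b) then
    IsLocalizedModule.lift (Submonoid.powers b) (Cech.mk b _)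
      (Submodule.liftQ _ (pf ∘ₗ Algebra.linearMap A K) fun x hx => by
        obtain ⟨c, rfl⟩ := Ideal.mem_span_singleton'.mp hx
        rw [LinearMap.mem_ker, LinearMap.comp_apply, Submodule.mkQ_apply,
          Submodule.Quotient.mk_eq_zero]
        exact ⟨algebraMap A K c, by simp [mul_comm]⟩)
      (Cech.isUnit_powers (isUnit_end h))
  else 0

theorem rk_mk {b : A} (hb : IsUnit (algebraMap A K b)) (x : A) :
    rk f K b (Cech.mk b _ (Submodule.Quotient.mk x)) = pf (algebraMap A K x) := by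
  classical
  rw [rk, dif_pos hb, IsLocalizedModule.lift_apply, Submodule.liftQ_apply]
  rfl

theorem rk_smul_mk {b : A} (hb : IsUnit (algebraMap A K b)) {ξ : Cech.L b (A ⧸ Ideal.span {f})}
    {z : A} {l : ℕ} (h : b ^ l • ξ = Cech.mk b _ (Submodule.Quotient.mk z)) {x : K}
    (hx : algebraMap A K b ^ l * x = algebraMap A K z) : rk f K b ξ = pf x := by
  have h1 := congrArg (rk f K b) h
  rw [map_smul, rk_mk hb, ← hx, ← map_pow, ← Algebra.smul_def, map_smul] at h1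
  obtain ⟨y, hy⟩ := (Mf f K).mkQ_surjective (rk f K b ξ)
  rw [← hy, ← map_smul] at h1
  obtain ⟨r, hr⟩ := pf_eq_iff.mp (show pf (f := f) (b ^ l • y) = pf (b ^ l • x) from h1)
  rw [← hy]
  obtain ⟨v, hv⟩ := hb.pow l
  refine pf_eq_iff.mpr ⟨↑v⁻¹ * r, v.isUnit.mul_left_cancel ?_⟩
  rw [Algebra.smul_def, Algebra.smul_def, map_pow, ← hv] at hr
  rw [mul_add, hr, ← mul_assoc (v : K), mul_comm (v : K) (algebraMap A K f), mul_assoc,
    Units.mul_inv_cancel_left]

theorem exists_rk_eq {b : A} (hb : IsUnit (algebraMap A K b)) {x : K} (hx : OnM f 1 b x) :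
    ∃ ξ, rk f K b ξ = pf x := by
  obtain ⟨y, ⟨l, z, hz⟩, r, hr⟩ := hx
  obtain ⟨ξ, hξ⟩ := ((Module.End.isUnit_iff _).1
    (IsLocalizedModule.map_units (Cech.mk b (A ⧸ Ideal.span {f}))
      (⟨b ^ l, l, rfl⟩ : Submonoid.powers b))).2
    (Cech.mk b _ (Submodule.Quotient.mk z))
  rw [Module.algebraMap_end_apply] at hξ
  refine ⟨ξ, (rk_smul_mk hb hξ hz).trans (pf_eq_iff.mpr ⟨-r, ?_⟩)⟩
  rw [hr]; ring

theorem exists_of_rk {b : A} (hb : IsUnit (algebraMap A K b)) (ξ : Cech.L b (A ⧸ Ideal.span {f})) :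
    ∃ x ∈ Loc K b, rk f K b ξ = pf x := by
  obtain ⟨⟨m, ⟨_, l, rfl⟩⟩, h⟩ :=
    IsLocalizedModule.surj (Submonoid.powers b) (Cech.mk b (A ⧸ Ideal.span {f})) ξ
  obtain ⟨z, rfl⟩ := Submodule.Quotient.mk_surjective _ m
  obtain ⟨v, hv⟩ := hb.pow l
  have hx : algebraMap A K b ^ l * (↑v⁻¹ * algebraMap A K z) = algebraMap A K z := by
    rw [← hv, Units.mul_inv_cancel_left]
  exact ⟨_, ⟨l, z, hx⟩, rk_smul_mk hb h hx⟩

theorem rk_ρ {b c : A} (hb : IsUnit (algebraMap A K b)) (hc : IsUnit (algebraMap A K c))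
    (h : IsUnit (algebraMap A (Module.End A (Cech.L c (A ⧸ Ideal.span {f}))) b))
    (ξ : Cech.L b (A ⧸ Ideal.span {f})) : rk f K c (Cech.ρ b c h ξ) = rk f K b ξ := by
  obtain ⟨⟨m, ⟨_, l, rfl⟩⟩, hs⟩ :=
    IsLocalizedModule.surj (Submonoid.powers b) (Cech.mk b (A ⧸ Ideal.span {f})) ξ
  obtain ⟨z, rfl⟩ := Submodule.Quotient.mk_surjective _ m
  obtain ⟨x, -, hx⟩ := exists_of_rk (K := K) hc (Cech.ρ b c h ξ)
  obtain ⟨v, hv⟩ := hb.pow l
  have hz : algebraMap A K b ^ l * (↑v⁻¹ * algebraMap A K z) = algebraMap A K z := by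
    rw [← hv, Units.mul_inv_cancel_left]
  rw [rk_smul_mk hb hs hz, hx]
  have h2 := congrArg (rk f K c) (congrArg (Cech.ρ b c h) hs)
  rw [Submonoid.smul_def, map_smul, map_smul, Cech.ρ_mk, rk_mk hc, hx, ← map_smul] at h2
  obtain ⟨r, hr⟩ := pf_eq_iff.mp h2
  refine pf_eq_iff.mpr ⟨↑v⁻¹ * r, v.isUnit.mul_left_cancel ?_⟩
  rw [Algebra.smul_def, map_pow, ← hv] at hr
  rw [mul_add, hr, Units.mul_inv_cancel_left, mul_left_comm (v : K),
    Units.mul_inv_cancel_left]

theorem L_eq_zero_of_dvd {b : A} (h : f ∣ b) (ξ : Cech.L b (A ⧸ Ideal.span {f})) : ξ = 0 := by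
  obtain ⟨⟨m, ⟨_, l, rfl⟩⟩, hs⟩ :=
    IsLocalizedModule.surj (Submonoid.powers b) (Cech.mk b (A ⧸ Ideal.span {f})) ξ
  have h0 : Cech.mk b (A ⧸ Ideal.span {f}) m = 0 :=
    (IsLocalizedModule.eq_zero_iff (Submonoid.powers b) _).2 ⟨⟨b, 1, pow_one b⟩, by
      obtain ⟨z, rfl⟩ := Submodule.Quotient.mk_surjective _ m
      rw [Submonoid.smul_def, ← Submodule.Quotient.mk_smul, Submodule.Quotient.mk_eq_zero,
        Ideal.mem_span_singleton]
      exact h.mul_right z⟩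
  exact ((Module.End.isUnit_iff _).1 (IsLocalizedModule.map_units (Cech.mk b _)
      (⟨b ^ l, l, rfl⟩ : Submonoid.powers b))).1
    (by simp only [Module.algebraMap_end_apply, smul_zero]; exact hs.trans h0)

section Inj

variable {T : Submonoid A} [IsLocalization T K] (S : Setup f a T)

include S

theorem rk_injective {b : A} (hb : IsUnit (algebraMap A K b)) {i : ι} (hi : a i ∣ b) :
    Function.Injective (rk f K b) := by
  rw [injective_iff_map_eq_zero]
  intro ξ hξ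
  obtain ⟨⟨m, ⟨_, l, rfl⟩⟩, hs⟩ :=
    IsLocalizedModule.surj (Submonoid.powers b) (Cech.mk b (A ⧸ Ideal.span {f})) ξ
  obtain ⟨z, rfl⟩ := Submodule.Quotient.mk_surjective _ m
  have h1 := congrArg (rk f K b) hs
  rw [Submonoid.smul_def, map_smul, hξ, smul_zero, rk_mk hb, eq_comm,
    ← map_zero (pf (f := f) (K := K))] at h1
  obtain ⟨r, hr⟩ := pf_eq_iff.mp h1
  obtain ⟨n, hn⟩ := S.exists_pow_dvd (n := 1) (z := z) (r := r) (by rw [hr, pow_one, zero_add]) i
  have h0 : Cech.mk b (A ⧸ Ideal.span {f}) (Submodule.Quotient.mk z) = 0 :=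
    (IsLocalizedModule.eq_zero_iff (Submonoid.powers b) _).2 ⟨⟨b ^ n, n, rfl⟩, by
      change (b ^ n) • (Submodule.Quotient.mk z : A ⧸ Ideal.span {f}) = 0
      rw [← Submodule.Quotient.mk_smul, Submodule.Quotient.mk_eq_zero, Ideal.mem_span_singleton]
      obtain ⟨c, rfl⟩ := hi
      rw [pow_one] at hn
      rw [smul_eq_mul, mul_pow, mul_right_comm]
      exact hn.mul_right _⟩
  exact ((Module.End.isUnit_iff _).1 (IsLocalizedModule.map_units (Cech.mk b _)
      (⟨b ^ l, l, rfl⟩ : Submonoid.powers b))).1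
    (by simp only [Module.algebraMap_end_apply, smul_zero]; exact hs.trans h0)

end Inj

section Main

variable (ι) in
/-- The index type of the cover together with `f`. -/
abbrev Idx : Type u := ULift.{u} (Option ι)

variable (f a) in
/-- The family of equations. -/
def seq : Idx ι → A := fun o => o.down.elim f a

theorem isUnit_pr (hu : ∀ i, IsUnit (algebraMap A K (a i))) {q : ℕ} (t : Fin q → Idx ι)
    (h : ∀ j, (t j).down ≠ none) : IsUnit (algebraMap A K (Cech.pr (seq f a) t)) := by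
  rw [map_prod, IsUnit.prod_iff]
  intro j _
  obtain ⟨i, hi⟩ := Option.ne_none_iff_exists'.mp (h j)
  simpa [seq, hi] using hu i

theorem L_eq_zero_of_none {q : ℕ} (t : Fin q → Idx ι) (j : Fin q) (h : (t j).down = none)
    (ξ : Cech.L (Cech.pr (seq f a) t) (A ⧸ Ideal.span {f})) : ξ = 0 :=
  L_eq_zero_of_dvd (by
    have := Cech.dvd_pr (seq f a) t j
    simpa [seq, h] using this) ξ

variable (K) in
/-- A cochain with given values. -/
noncomputable def mkCochain {q : ℕ} (v : (Fin q → Idx ι) → K) :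
    Cech.Cochain (A ⧸ Ideal.span {f}) (seq f a) q := fun t => by
  classical
  exact if h : ∃ ξ, rk f K (Cech.pr (seq f a) t) ξ = pf (v t) then h.choose else 0

theorem rk_mkCochain {q : ℕ} (v : (Fin q → Idx ι) → K) (t : Fin q → Idx ι)
    (hu : IsUnit (algebraMap A K (Cech.pr (seq f a) t))) (h : OnM f 1 (Cech.pr (seq f a) t) (v t)) :
    rk f K (Cech.pr (seq f a) t) (mkCochain K v t) = pf (v t) := by
  classical
  have h' := exists_rk_eq hu h
  rw [mkCochain, dif_pos h']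
  exact h'.choose_spec

theorem rk_dT (hu : ∀ i, IsUnit (algebraMap A K (a i))) {q : ℕ}
    (c : Cech.Cochain (A ⧸ Ideal.span {f}) (seq f a) q) (t : Fin (q + 1) → Idx ι)
    (h : ∀ j, (t j).down ≠ none) :
    rk f K (Cech.pr (seq f a) t) (Cech.dT (A ⧸ Ideal.span {f}) (seq f a) q c t) =
      ∑ j : Fin (q + 1), (-1 : A) ^ (j : ℕ) •
        rk f K (Cech.pr (seq f a) (t ∘ j.succAbove)) (c (t ∘ j.succAbove)) := by
  rw [Cech.dT_apply, map_sum]
  refine Finset.sum_congr rfl fun j _ => ?_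
  rw [map_smul]
  exact congrArg _ (rk_ρ (isUnit_pr hu _ fun k => h _) (isUnit_pr hu t h) _ _)

variable (f a) in
/-- The class of a cocycle. -/
noncomputable def clsT (q : ℕ) : LinearMap.ker (Cech.dT (A ⧸ Ideal.span {f}) (seq f a) q) →ₗ[A]
    (Cech.T (A ⧸ Ideal.span {f}) (seq f a)).homology q where
  toFun z := Elem.cls (Cech.next_nat q) ⟨z.1, (Cech.T_d_apply _ q z.1).trans z.2⟩
  map_add' z z' := map_add (Elem.cls (Cech.next_nat q))
    (⟨z.1, (Cech.T_d_apply _ q z.1).trans z.2⟩ : LinearMap.ker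
      ((Cech.T (A ⧸ Ideal.span {f}) (seq f a)).d q (q + 1)).hom) ⟨z'.1, (Cech.T_d_apply _ q z'.1).trans z'.2⟩
  map_smul' c z := map_smul (Elem.cls (Cech.next_nat q)) c
    (⟨z.1, (Cech.T_d_apply _ q z.1).trans z.2⟩ : LinearMap.ker
      ((Cech.T (A ⧸ Ideal.span {f}) (seq f a)).d q (q + 1)).hom)

theorem exists_of_clsT_eq_zero (q : ℕ)
    (z : LinearMap.ker (Cech.dT (A ⧸ Ideal.span {f}) (seq f a) (q + 1)))
    (hz : clsT f a (q + 1) z = 0) :
    ∃ w, Cech.dT (A ⧸ Ideal.span {f}) (seq f a) q w = z.1 := by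
  obtain ⟨w, hw⟩ := (Elem.cls_eq_zero_iff (Cech.prev_nat q) (Cech.next_nat (q + 1)) _).1 hz
  exact ⟨w, (Cech.T_d_apply _ q w).symm.trans hw⟩

variable [IsNoetherianRing A] [IsLocalRing A] [Finite ι]

/-- The Čech complex computes local cohomology at the maximal ideal. -/
theorem nonempty_equiv (hf : f ∈ maximalIdeal A) (ham : ∀ i, a i ∈ maximalIdeal A)
    (ha : maximalIdeal A ≤ (Ideal.span (Set.range a) ⊔ Ideal.span {f}).radical) (p : ℕ) :
    Nonempty ((Cech.T (A ⧸ Ideal.span {f}) (seq f a)).homology p ≃ₗ[A]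
      LocCoh.H (maximalIdeal A) p (A ⧸ Ideal.span {f})) := by
  have := Fintype.ofFinite (Idx ι)
  let fs : List A := (Finset.univ : Finset (Idx ι)).toList.map (seq f a)
  have hfs : ∀ b, b ∈ fs ↔ ∃ i, seq f a i = b := fun b => by
    simp only [fs, List.mem_map, Finset.mem_toList, Finset.mem_univ, true_and]; exact Iff.rfl
  obtain ⟨e⟩ := Iso.nonempty_equiv fs (seq f a) hfs p (A ⧸ Ideal.span {f})
  obtain ⟨e'⟩ := LC.nonempty_equiv fs p (A ⧸ Ideal.span {f})
  have hspan : LC.idl fs = Ideal.span (Set.range (seq f a)) :=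
    congrArg Ideal.span (Set.ext fun b => hfs b)
  have hle : LC.idl fs ≤ maximalIdeal A := by
    rw [hspan, Ideal.span_le]
    rintro _ ⟨⟨_ | i⟩, rfl⟩
    exacts [hf, ham i]
  have hge : maximalIdeal A ≤ (LC.idl fs).radical := by
    refine ha.trans (Ideal.radical_mono (sup_le (Ideal.span_le.mpr ?_) (Ideal.span_le.mpr ?_)))
    · rintro _ ⟨i, rfl⟩
      exact hspan ▸ Ideal.subset_span ⟨⟨some i⟩, rfl⟩
    · rintro _ rfl
      exact hspan ▸ Ideal.subset_span ⟨⟨none⟩, rfl⟩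
  have hrad : (LC.idl fs).radical = (maximalIdeal A).radical :=
    le_antisymm (Ideal.radical_mono hle) ((Ideal.radical_mono hge).trans (Ideal.radical_idem _).le)
  exact ⟨e ≪≫ₗ e'.symm ≪≫ₗ ((localCohomology.isoOfSameRadical hrad p).app
    (ModuleCat.of A (A ⧸ Ideal.span {f}))).toLinearEquiv⟩

variable (hf : f ∈ maximalIdeal A) (ham : ∀ i, a i ∈ maximalIdeal A)
  (ha : maximalIdeal A ≤ (Ideal.span (Set.range a) ⊔ Ideal.span {f}).radical)
  {T : Submonoid A} [IsLocalization T K] (S : Setup f a T)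

include hf ham ha S

set_option maxHeartbeats 1000000 in
/-- `H^3_m = 0` gives vanishing of two-cocycles. -/
theorem h2K_of_locCoh (h₃ : Subsingleton (LocCoh.H (maximalIdeal A) 3 (A ⧸ Ideal.span {f}))) :
    H2K f a K := by
  classical
  obtain ⟨e⟩ := nonempty_equiv hf ham ha 3
  have hu := S.isUnit_a (K := K)
  intro c hc hcoc
  let v : (Fin 3 → Idx ι) → K := fun t =>
    match (t 0).down, (t 1).down, (t 2).down with
    | some i, some j, some l => c i j l
    | _, _, _ => 0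
  let C := mkCochain (f := f) (a := a) K v
  have hC : ∀ i j l, rk f K (Cech.pr (seq f a) ![⟨some i⟩, ⟨some j⟩, ⟨some l⟩])
      (C ![⟨some i⟩, ⟨some j⟩, ⟨some l⟩]) = pf (c i j l) := fun i j l =>
    rk_mkCochain v _ (isUnit_pr hu _ (by simp [Fin.forall_fin_succ])) (OnM.of_mem (by
      simpa [v, Cech.pr, Fin.prod_univ_three, seq] using hc i j l))
  have hcyc : Cech.dT (A ⧸ Ideal.span {f}) (seq f a) 3 C = 0 := funext fun t => by
    by_cases h : ∀ j, (t j).down ≠ none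
    · obtain ⟨i, hi⟩ := Option.ne_none_iff_exists'.mp (h 0)
      obtain ⟨j, hj⟩ := Option.ne_none_iff_exists'.mp (h 1)
      obtain ⟨l, hl⟩ := Option.ne_none_iff_exists'.mp (h 2)
      obtain ⟨m, hm⟩ := Option.ne_none_iff_exists'.mp (h 3)
      obtain rfl : t = ![⟨some i⟩, ⟨some j⟩, ⟨some l⟩, ⟨some m⟩] := funext fun k => by
        fin_cases k <;> exact ULift.ext _ _ (by assumption)
      refine rk_injective S (isUnit_pr hu _ h) (i := i) ?_ ?_
      · simpa [seq] using Cech.dvd_pr (seq f a) ![⟨some i⟩, ⟨some j⟩, ⟨some l⟩, ⟨some m⟩] 0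
      have f0 : (![⟨some i⟩, ⟨some j⟩, ⟨some l⟩, ⟨some m⟩] : Fin 4 → Idx ι) ∘ Fin.succAbove 0 =
          ![⟨some j⟩, ⟨some l⟩, ⟨some m⟩] := by funext k; fin_cases k <;> rfl
      have f1 : (![⟨some i⟩, ⟨some j⟩, ⟨some l⟩, ⟨some m⟩] : Fin 4 → Idx ι) ∘ Fin.succAbove 1 =
          ![⟨some i⟩, ⟨some l⟩, ⟨some m⟩] := by funext k; fin_cases k <;> rfl
      have f2 : (![⟨some i⟩, ⟨some j⟩, ⟨some l⟩, ⟨some m⟩] : Fin 4 → Idx ι) ∘ Fin.succAbove 2 =
          ![⟨some i⟩, ⟨some j⟩, ⟨some m⟩] := by funext k; fin_cases k <;> rfl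
      have f3 : (![⟨some i⟩, ⟨some j⟩, ⟨some l⟩, ⟨some m⟩] : Fin 4 → Idx ι) ∘ Fin.succAbove 3 =
          ![⟨some i⟩, ⟨some j⟩, ⟨some l⟩] := by funext k; fin_cases k <;> rfl
      rw [rk_dT hu C _ h, Fin.sum_univ_four, f0, f1, f2, f3, hC, hC, hC, hC, Pi.zero_apply,
        map_zero, ← map_zero (pf (f := f) (K := K)), ← map_smul, ← map_smul, ← map_smul,
        ← map_smul, ← map_add, ← map_add, ← map_add, pf_eq_iff]
      obtain ⟨r, hr⟩ := hcoc i j l m
      refine ⟨r, ?_⟩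
      simp [Algebra.smul_def] at hr ⊢
      linear_combination hr
    · push Not at h
      obtain ⟨j, hj⟩ := h
      exact L_eq_zero_of_none t j hj _
  obtain ⟨h, hh⟩ := exists_of_clsT_eq_zero 2 ⟨C, hcyc⟩ (e.injective (h₃.elim _ _))
  have hu2 : ∀ i j, IsUnit (algebraMap A K (Cech.pr (seq f a) ![⟨some i⟩, ⟨some j⟩])) :=
    fun i j => isUnit_pr hu _ (by simp [Fin.forall_fin_succ])
  choose w hw hwh using fun i j => exists_of_rk (K := K) (hu2 i j) (h ![⟨some i⟩, ⟨some j⟩])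
  refine ⟨w, fun i j => by simpa [Cech.pr, seq] using hw i j, fun i j l => ?_⟩
  have h3 := rk_dT (K := K) hu h ![⟨some i⟩, ⟨some j⟩, ⟨some l⟩] (by simp [Fin.forall_fin_succ])
  have f0 : (![⟨some i⟩, ⟨some j⟩, ⟨some l⟩] : Fin 3 → Idx ι) ∘ Fin.succAbove 0 =
      ![⟨some j⟩, ⟨some l⟩] := by funext k; fin_cases k <;> rfl
  have f1 : (![⟨some i⟩, ⟨some j⟩, ⟨some l⟩] : Fin 3 → Idx ι) ∘ Fin.succAbove 1 =
      ![⟨some i⟩, ⟨some l⟩] := by funext k; fin_cases k <;> rfl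
  have f2 : (![⟨some i⟩, ⟨some j⟩, ⟨some l⟩] : Fin 3 → Idx ι) ∘ Fin.succAbove 2 =
      ![⟨some i⟩, ⟨some j⟩] := by funext k; fin_cases k <;> rfl
  rw [hh, hC, Fin.sum_univ_three, f0, f1, f2, hwh, hwh, hwh, ← map_smul, ← map_smul, ← map_smul,
    ← map_add, ← map_add, pf_eq_iff] at h3
  obtain ⟨r, hr⟩ := h3
  refine ⟨r, ?_⟩
  simp [Algebra.smul_def] at hr ⊢
  linear_combination hr

set_option maxHeartbeats 1000000 in
/-- Finiteness of `H^2_m` gives finiteness of one-cocycles. -/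
theorem addFG_of_locCoh (h₂ : Module.Finite A (LocCoh.H (maximalIdeal A) 2 (A ⧸ Ideal.span {f}))) :
    AddFG f a K := by
  classical
  obtain ⟨e⟩ := nonempty_equiv hf ham ha 2
  have := Module.Finite.equiv e.symm
  have hu := S.isUnit_a (K := K)
  have hu2 : ∀ i j, IsUnit (algebraMap A K (Cech.pr (seq f a) ![⟨some i⟩, ⟨some j⟩])) :=
    fun i j => isUnit_pr hu _ (by simp [Fin.forall_fin_succ])
  let Kr := LinearMap.ker (Cech.dT (A ⧸ Ideal.span {f}) (seq f a) 2)
  let P : Submodule A ((ι → K) × Kr) :=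
    { carrier := {p | ∀ i j, rk f K _ ((p.2 : Cech.Cochain (A ⧸ Ideal.span {f}) (seq f a) 2)
        ![⟨some i⟩, ⟨some j⟩]) = pf (p.1 j - p.1 i)}
      add_mem' := fun {p q} hp hq i j => by
        simp only [Prod.snd_add, Prod.fst_add, Submodule.coe_add, Pi.add_apply, map_add, hp i j, hq i j]
        rw [← map_add]
        congr 1
        ring
      zero_mem' := fun i j => by simp
      smul_mem' := fun c p hp i j => by
        simp only [Prod.smul_snd, Prod.smul_fst, SetLike.val_smul, Pi.smul_apply, map_smul, hp i j]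
        rw [← map_smul, smul_sub] }
  let Λ : P →ₗ[A] (Cech.T (A ⧸ Ideal.span {f}) (seq f a)).homology 2 :=
    clsT f a 2 ∘ₗ LinearMap.snd A (ι → K) Kr ∘ₗ P.subtype
  obtain ⟨N, hN, hcompl⟩ := exists_fg_complement (P := P)
    (H := (Cech.T (A ⧸ Ideal.span {f}) (seq f a)).homology 2) Λ
  refine ⟨N.map (LinearMap.fst A (ι → K) Kr ∘ₗ P.subtype), hN.map _, fun r hr => ?_⟩
  let v : (Fin 2 → Idx ι) → K := fun t =>
    match (t 0).down, (t 1).down with
    | some i, some j => r j - r i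
    | _, _ => 0
  let C := mkCochain (f := f) (a := a) K v
  have hC : ∀ i j, rk f K (Cech.pr (seq f a) ![⟨some i⟩, ⟨some j⟩])
      (C ![⟨some i⟩, ⟨some j⟩]) = pf (r j - r i) := fun i j =>
    rk_mkCochain v _ (hu2 i j) (by simpa [v, Cech.pr, seq] using hr i j)
  have hcyc : Cech.dT (A ⧸ Ideal.span {f}) (seq f a) 2 C = 0 := funext fun t => by
    by_cases h : ∀ j, (t j).down ≠ none
    · obtain ⟨i, hi⟩ := Option.ne_none_iff_exists'.mp (h 0)
      obtain ⟨j, hj⟩ := Option.ne_none_iff_exists'.mp (h 1)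
      obtain ⟨l, hl⟩ := Option.ne_none_iff_exists'.mp (h 2)
      obtain rfl : t = ![⟨some i⟩, ⟨some j⟩, ⟨some l⟩] := funext fun k => by
        fin_cases k <;> exact ULift.ext _ _ (by assumption)
      refine rk_injective S (isUnit_pr hu _ h) (i := i) ?_ ?_
      · simpa [seq] using Cech.dvd_pr (seq f a) ![⟨some i⟩, ⟨some j⟩, ⟨some l⟩] 0
      have f0 : (![⟨some i⟩, ⟨some j⟩, ⟨some l⟩] : Fin 3 → Idx ι) ∘ Fin.succAbove 0 =
          ![⟨some j⟩, ⟨some l⟩] := by funext k; fin_cases k <;> rfl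
      have f1 : (![⟨some i⟩, ⟨some j⟩, ⟨some l⟩] : Fin 3 → Idx ι) ∘ Fin.succAbove 1 =
          ![⟨some i⟩, ⟨some l⟩] := by funext k; fin_cases k <;> rfl
      have f2 : (![⟨some i⟩, ⟨some j⟩, ⟨some l⟩] : Fin 3 → Idx ι) ∘ Fin.succAbove 2 =
          ![⟨some i⟩, ⟨some j⟩] := by funext k; fin_cases k <;> rfl
      rw [rk_dT hu C _ h, Fin.sum_univ_three, f0, f1, f2, hC, hC, hC, Pi.zero_apply,
        map_zero, ← map_zero (pf (f := f) (K := K)), ← map_smul, ← map_smul, ← map_smul,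
        ← map_add, ← map_add, pf_eq_iff]
      exact ⟨0, by simp [Algebra.smul_def]⟩
    · push Not at h
      obtain ⟨j, hj⟩ := h
      exact L_eq_zero_of_none t j hj _
  let p : P := ⟨(r, ⟨C, hcyc⟩), fun i j => hC i j⟩
  obtain ⟨x, hx, hxz⟩ := hcompl p
  refine ⟨(x : (ι → K) × Kr).1, Submodule.mem_map_of_mem hx, ?_⟩
  have hq : ∀ i j, rk f K _ ((((p - x : P) : (ι → K) × Kr).2 :
      Cech.Cochain (A ⧸ Ideal.span {f}) (seq f a) 2) ![⟨some i⟩, ⟨some j⟩]) =
        pf (((p - x : P) : (ι → K) × Kr).1 j - ((p - x : P) : (ι → K) × Kr).1 i) := (p - x : P).2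
  obtain ⟨w, hw'⟩ := exists_of_clsT_eq_zero 1 _ hxz
  have hw : Cech.dT (A ⧸ Ideal.span {f}) (seq f a) 1 w =
      ((((p - x : P) : (ι → K) × Kr)).2 : Cech.Cochain (A ⧸ Ideal.span {f}) (seq f a) 2) :=
    hw'
  choose z hz hzw using fun i => exists_of_rk (K := K)
    (isUnit_pr hu ![(⟨some i⟩ : Idx ι)] (by simp)) (w ![⟨some i⟩])
  rcases isEmpty_or_nonempty ι with hι | ⟨⟨o⟩⟩
  · exact ⟨0, fun i => isEmptyElim i⟩
  refine ⟨r o - (x : (ι → K) × Kr).1 o - z o, fun i => ⟨z i, by simpa [Cech.pr, seq] using hz i, ?_⟩⟩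
  have h3 := rk_dT (K := K) hu w ![⟨some o⟩, ⟨some i⟩] (by simp [Fin.forall_fin_succ])
  have f0 : (![⟨some o⟩, ⟨some i⟩] : Fin 2 → Idx ι) ∘ Fin.succAbove 0 = ![⟨some i⟩] := by
    funext k; fin_cases k; rfl
  have f1 : (![⟨some o⟩, ⟨some i⟩] : Fin 2 → Idx ι) ∘ Fin.succAbove 1 = ![⟨some o⟩] := by
    funext k; fin_cases k; rfl
  rw [hw, hq o i, Fin.sum_univ_two, f0, f1, hzw, hzw, ← map_smul, ← map_smul, ← map_add,
    pf_eq_iff] at h3
  obtain ⟨d, hd⟩ := h3
  simp [p, Algebra.smul_def] at hd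
  exact ⟨d, by rw [pow_one]; linear_combination hd⟩

set_option maxHeartbeats 1000000 in
/-- Finiteness of `H^1_m` gives finiteness of functions modulo `f`. -/
theorem globFG_of_locCoh (h₁ : Module.Finite A (LocCoh.H (maximalIdeal A) 1 (A ⧸ Ideal.span {f}))) :
    GlobFG f a K := by
  classical
  obtain ⟨e⟩ := nonempty_equiv hf ham ha 1
  have := Module.Finite.equiv e.symm
  have hu := S.isUnit_a (K := K)
  have hu1 : ∀ i, IsUnit (algebraMap A K (Cech.pr (seq f a) ![⟨some i⟩])) :=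
    fun i => isUnit_pr hu _ (by simp)
  rcases isEmpty_or_nonempty ι with hι | ⟨⟨o⟩⟩
  · refine ⟨LinearMap.range (Algebra.linearMap A K),
      by rw [LinearMap.range_eq_map]; exact (Module.Finite.fg_top).map _, fun z _ => ?_⟩
    obtain ⟨⟨x, t⟩, hxt⟩ := IsLocalization.surj T z
    obtain ⟨v, hv⟩ := IsLocalization.map_units K t
    by_cases ht : IsUnit (t : A)
    · obtain ⟨t', ht'⟩ := ht
      refine ⟨algebraMap A K (x * ↑t'⁻¹), ⟨_, rfl⟩, 0, ?_⟩
      rw [map_mul, ← hxt, mul_assoc, ← map_mul, ← ht', Units.mul_inv]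
      simp
    · have htm : (t : A) ∈ (Ideal.span {f}).radical := by
        have := ha (show (t : A) ∈ maximalIdeal A from ht)
        simpa [Set.range_eq_empty] using this
      obtain ⟨n, hn⟩ := htm
      obtain ⟨c, hc⟩ := Ideal.mem_span_singleton'.mp hn
      refine ⟨0, zero_mem _, algebraMap A K c * ↑(v ^ n)⁻¹ * z, ?_⟩
      rw [zero_add, ← mul_assoc, ← mul_assoc, ← map_mul, mul_comm f, hc, map_pow, ← hv,
        ← Units.val_pow_eq_pow_val, Units.mul_inv, one_mul]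
  let Kr := LinearMap.ker (Cech.dT (A ⧸ Ideal.span {f}) (seq f a) 1)
  let P : Submodule A (K × Kr) :=
    { carrier := {p | ∀ i, rk f K _ ((p.2 : Cech.Cochain (A ⧸ Ideal.span {f}) (seq f a) 1)
        ![⟨some i⟩]) = pf p.1}
      add_mem' := fun {p q} hp hq i => by
        simp only [Prod.snd_add, Prod.fst_add, Submodule.coe_add, Pi.add_apply, map_add, hp i, hq i]
      zero_mem' := fun i => by simp
      smul_mem' := fun c p hp i => by
        simp only [Prod.smul_snd, Prod.smul_fst, SetLike.val_smul, Pi.smul_apply, map_smul, hp i] }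
  let Λ : P →ₗ[A] (Cech.T (A ⧸ Ideal.span {f}) (seq f a)).homology 1 :=
    clsT f a 1 ∘ₗ LinearMap.snd A K Kr ∘ₗ P.subtype
  obtain ⟨N, hN, hcompl⟩ := exists_fg_complement (P := P)
    (H := (Cech.T (A ⧸ Ideal.span {f}) (seq f a)).homology 1) Λ
  refine ⟨N.map (LinearMap.fst A K Kr ∘ₗ P.subtype) ⊔ LinearMap.range (Algebra.linearMap A K),
    (hN.map _).sup (by rw [LinearMap.range_eq_map]; exact (Module.Finite.fg_top).map _), fun r hr => ?_⟩
  let v : (Fin 1 → Idx ι) → K := fun _ => r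
  let C := mkCochain (f := f) (a := a) K v
  have hC : ∀ i, rk f K (Cech.pr (seq f a) ![⟨some i⟩]) (C ![⟨some i⟩]) = pf r := fun i =>
    rk_mkCochain v _ (hu1 i) (by simpa [v, Cech.pr, seq] using hr i)
  have hcyc : Cech.dT (A ⧸ Ideal.span {f}) (seq f a) 1 C = 0 := funext fun t => by
    by_cases h : ∀ j, (t j).down ≠ none
    · obtain ⟨i, hi⟩ := Option.ne_none_iff_exists'.mp (h 0)
      obtain ⟨j, hj⟩ := Option.ne_none_iff_exists'.mp (h 1)
      obtain rfl : t = ![⟨some i⟩, ⟨some j⟩] := funext fun k => by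
        fin_cases k <;> exact ULift.ext _ _ (by assumption)
      refine rk_injective S (isUnit_pr hu _ h) (i := i) ?_ ?_
      · simpa [seq] using Cech.dvd_pr (seq f a) ![⟨some i⟩, ⟨some j⟩] 0
      have f0 : (![⟨some i⟩, ⟨some j⟩] : Fin 2 → Idx ι) ∘ Fin.succAbove 0 = ![⟨some j⟩] := by
        funext k; fin_cases k; rfl
      have f1 : (![⟨some i⟩, ⟨some j⟩] : Fin 2 → Idx ι) ∘ Fin.succAbove 1 = ![⟨some i⟩] := by
        funext k; fin_cases k; rfl
      rw [rk_dT hu C _ h, Fin.sum_univ_two, f0, f1, hC, hC, Pi.zero_apply, map_zero]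
      simp
    · push Not at h
      obtain ⟨j, hj⟩ := h
      exact L_eq_zero_of_none t j hj _
  let p : P := ⟨(r, ⟨C, hcyc⟩), fun i => hC i⟩
  obtain ⟨x, hx, hxz⟩ := hcompl p
  have hq : rk f K _ ((((p - x : P) : K × Kr).2 :
      Cech.Cochain (A ⧸ Ideal.span {f}) (seq f a) 1) ![⟨some o⟩]) =
        pf (((p - x : P) : K × Kr).1) := (p - x : P).2 o
  obtain ⟨w, hw'⟩ := exists_of_clsT_eq_zero 0 _ hxz
  have hw : Cech.dT (A ⧸ Ideal.span {f}) (seq f a) 0 w =
      ((((p - x : P) : K × Kr)).2 : Cech.Cochain (A ⧸ Ideal.span {f}) (seq f a) 1) :=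
    hw'
  obtain ⟨m, rfl⟩ := (Cech.bijective_const (A ⧸ Ideal.span {f}) (seq f a)).2 w
  obtain ⟨m, rfl⟩ := Submodule.Quotient.mk_surjective _ m
  have h3 := rk_dT (f := f) (a := a) (K := K) hu
    (LinearMap.pi (fun t : Fin 0 → Idx ι => Cech.mk (Cech.pr (seq f a) t) _) (Submodule.Quotient.mk m))
    ![(⟨some o⟩ : Idx ι)] (by simp)
  rw [hw, hq, Fin.sum_univ_one] at h3
  rw [show ((LinearMap.pi fun t : Fin 0 → Idx ι => Cech.mk (Cech.pr (seq f a) t)
    (A ⧸ Ideal.span {f})) (Submodule.Quotient.mk m)) (![(⟨some o⟩ : Idx ι)] ∘ Fin.succAbove 0) =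
      Cech.mk _ _ (Submodule.Quotient.mk m) from rfl, rk_mk (isUnit_pr hu _ (by simp)), ← map_smul,
    pf_eq_iff] at h3
  obtain ⟨d, hd⟩ := h3
  refine ⟨(x : K × Kr).1 + algebraMap A K m, add_mem (Submodule.mem_sup_left (Submodule.mem_map_of_mem hx))
    (Submodule.mem_sup_right ⟨m, rfl⟩), d, ?_⟩
  simp [p] at hd
  linear_combination hd

end Main

end Groth.Agent.H80.Divisor.Weak
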