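import Groth.Agent.H80.Divisor.Weak.Neighbour
import Groth.Agent.H97.PullbackLine
import Groth.Agent.H80.Divisor.Para

/-!
# Extending across the closed points outside the hypersurface
-/

set_option autoImplicit false
set_option backward.isDefEq.respectTransparency false

universe u

open CategoryTheory CategoryTheory.Limits AlgebraicGeometry IsLocalRing TopologicalSpace Opposite
open Groth.Agent.Lib Groth.Agent.Lib.TensorMod Groth.Agent.Lib.TensorMod.Dual
open Groth.Agent.Lib.TensorMod.Gen Groth.Agent.Lib.TensorMod.Pullback Groth.Agent.Lib.Ample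
open Groth.Agent.Lib.Ample.GenLocus

namespace Groth.Agent.H80.Divisor.Weak

open Groth.Agent.H80.Clopen

variable {A : Type u} [CommRing A] [IsNoetherianRing A] [IsLocalRing A] {f : A}
  {L : (U₀ f : Scheme.{u}).Modules} (D : Model A f L)

/-- The neighbourhood of the punctured hypersurface of a model. -/
noncomputable abbrev Model.nhd : (Spec (CommRingCat.of A)).Opens := ⨆ k, D.chart k

theorem Model.mem_nhd_iff (p : PrimeSpectrum A) :
    (show ↥(Spec (CommRingCat.of A)) from p) ∈ D.nhd ↔ ∃ k, D.b k ∉ p.asIdeal := Opens.mem_iSup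

set_option maxHeartbeats 1000000 in
/-- Near a point all of whose proper generisations lie in the neighbourhood, the model is trivial. -/
theorem Model.exists_gen_near (q : Ideal A) [q.IsPrime]
    (hq : ∀ k, D.b k ∈ q) (hlt : ∀ p : Ideal A, p.IsPrime → p < q → ∃ k, D.b k ∉ p)
    (htriv : Formal2.PicTrivial (↑(FEt.puncturedSpec (Localization.AtPrime q)) : Scheme.{u})) :
    ∃ S₀ ∉ q, ∃ σ : Γ(D.sheaf, (PrimeSpectrum.basicOpen S₀ : (Spec (CommRingCat.of A)).Opens) ⊓ D.nhd),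
      IsGen D.sheaf _ σ := by
  classical
  let X := Spec (CommRingCat.of A)
  let R := Localization.AtPrime q
  let φ : A →+* R := algebraMap A R
  let Uq := FEt.puncturedSpec R
  let j : (Uq : Scheme.{u}) ⟶ X := Uq.ι ≫ Spec.map (CommRingCat.ofHom φ)
  have happ : ∀ r : A, j.appTop ((Scheme.ΓSpecIso (CommRingCat.of A)).inv r) = str Uq.ι (φ r) := fun r => by
    simp only [j]
    rw [Scheme.Hom.comp_appTop]
    change Uq.ι.appTop (((Scheme.ΓSpecIso (CommRingCat.of A)).inv ≫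
      (Spec.map (CommRingCat.ofHom φ)).appTop) r) = _
    rw [show (Scheme.ΓSpecIso (CommRingCat.of A)).inv ≫ (Spec.map (CommRingCat.ofHom φ)).appTop =
      CommRingCat.ofHom φ ≫ (Scheme.ΓSpecIso _).inv from (Scheme.ΓSpecIso_inv_naturality _).symm]
    rfl
  let V : Fin D.n → (Uq : Scheme.{u}).Opens := fun k => (Uq : Scheme.{u}).basicOpen (str Uq.ι (φ (D.b k)))
  have hpre : ∀ k, j ⁻¹ᵁ D.chart k = V k := fun k => by
    rw [show D.chart k = X.basicOpen ((Scheme.ΓSpecIso (CommRingCat.of A)).inv (D.b k)) from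
      (basicOpen_eq_of_affine (R := CommRingCat.of A) (D.b k)).symm, Scheme.preimage_basicOpen_top, happ]
  have hcov : ∀ p : (Uq : Scheme.{u}), ∃ k, p ∈ V k := fun p => by
    let P : Ideal R := (Uq.ι.base p : PrimeSpectrum R).asIdeal
    have hP : P.IsPrime := (Uq.ι.base p : PrimeSpectrum R).2
    have hPm : P ≠ maximalIdeal R := fun h => p.2 (PrimeSpectrum.ext h)
    have hltq : P.comap φ < q := lt_of_le_of_ne (by
      intro x hx
      by_contra hxq
      exact hP.ne_top (P.eq_top_of_isUnit_mem hx (IsLocalization.map_units R (⟨x, hxq⟩ : q.primeCompl))))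
      fun h => hPm (by
        rw [← IsLocalization.map_comap q.primeCompl R P, ← IsLocalization.map_comap q.primeCompl R (maximalIdeal R)]
        exact congrArg (Ideal.map φ) (h.trans (IsLocalization.AtPrime.comap_maximalIdeal R q).symm))
    obtain ⟨k, hk⟩ := hlt _ (hP.comap φ) hltq
    exact ⟨k, by simp only [V]; rw [basicOpen_str]; exact hk⟩
  let N := (pb j).obj D.sheaf
  let m : D.M → Γ(N, ⊤) := fun x => unitSec j D.sheaf (U := ⊤) (sec (R := CommRingCat.of A) D.modR ⊤ x)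
  have hm : ∀ (r : A) (x : D.M), m (r • x) = str Uq.ι (φ r) • m x := fun r x => by
    have h1 := (smul_sec (R := CommRingCat.of A) D.modR (V := ⊤) r x).symm
    refine (congrArg (unitSec j D.sheaf (U := ⊤)) h1).trans ?_
    refine (unitSec_smul j _ _).trans ?_
    rw [rf_self]
    exact congrArg (fun t : Γ((Uq : Scheme.{u}), ⊤) => t • m x) (happ r)
  have hG : ∀ k, IsGen N (V k) (rs N le_top (m (D.e k))) := fun k => by
    have h := isGen_unitSec j (isGen_sec (R := CommRingCat.of A) D.modR (D.b k) (D.e k) (D.span k) (D.tors k))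
    rw [← rs_sec (R := CommRingCat.of A) D.modR (le_top : D.chart k ≤ ⊤) (D.e k), ← unitSec_rs j le_top] at h
    have h2 := h.res (hpre k).ge
    rwa [rs_rs] at h2
  have hN : PicF.IsInvertible N := isInvertible_iff.2 fun p => by
    obtain ⟨k, hk⟩ := hcov p
    exact ⟨V k, _, hk, hG k⟩
  obtain ⟨φ₀⟩ := htriv N hN
  obtain ⟨τ, hτ⟩ := H52.PushInv.exists_gen_of_iso_unit φ₀
  choose c hc using fun k => GenLocus.exists_coord (hG k) (rs N le_top τ)
  have hcu : ∀ k, IsUnit (c k) := fun k => isUnit_of_isGen_smul (hG k) (by rw [← hc]; exact hτ.res le_top)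
  have hbm : ∀ b : A, b ∈ q → φ b ∈ maximalIdeal R := fun b hb =>
    (IsLocalization.AtPrime.to_map_mem_maximal_iff R q b).mpr hb
  have hU : ∀ b : R, b ∈ maximalIdeal R → PrimeSpectrum.basicOpen b ≤ Uq := fun b hb w hw h =>
    hw (congrArg PrimeSpectrum.asIdeal h ▸ hb)
  let P : ∀ (O : (Uq : Scheme.{u}).Opens), A →+* Γ((Uq : Scheme.{u}), O) := fun O =>
    ((rfHom (le_top : O ≤ ⊤)).comp (str Uq.ι)).comp φ
  have hfrac : ∀ {b : A}, b ∈ q → ∀ x : Γ((Uq : Scheme.{u}), (Uq : Scheme.{u}).basicOpen (str Uq.ι (φ b))),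
      ∃ (l : ℕ) (s r : A), s ∉ q ∧ P _ (s * b ^ l) * x = P _ r := by
    intro b hb x
    let : Algebra R Γ((Uq : Scheme.{u}), (Uq : Scheme.{u}).basicOpen (str Uq.ι (φ b))) :=
      ((rfHom le_top).comp (str Uq.ι)).toAlgebra
    have : IsLocalization.Away (φ b) Γ((Uq : Scheme.{u}), (Uq : Scheme.{u}).basicOpen (str Uq.ι (φ b))) :=
      isLocalization_chart Uq (φ b) (hU _ (hbm b hb))
    obtain ⟨⟨y, _, l, rfl⟩, hy⟩ := IsLocalization.surj (Submonoid.powers (φ b)) x
    obtain ⟨⟨r, s⟩, hrs⟩ := IsLocalization.surj q.primeCompl y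
    refine ⟨l, s, r, s.2, ?_⟩
    change algebraMap R _ (φ (s * b ^ l)) * x = algebraMap R _ (φ r)
    rw [← hrs, map_mul, map_mul, map_mul, map_pow, mul_assoc, mul_comm (algebraMap R _ (φ b ^ l)) x]
    refine (congrArg (algebraMap R _ (φ s) * ·) hy).trans ?_
    exact mul_comm _ _
  have hzero : ∀ {b : A}, b ∈ q → ∀ x : A,
      P ((Uq : Scheme.{u}).basicOpen (str Uq.ι (φ b))) x = 0 → ∃ (t : A) (n : ℕ), t ∉ q ∧ t * b ^ n * x = 0 := by
    intro b hb x hx
    let : Algebra R Γ((Uq : Scheme.{u}), (Uq : Scheme.{u}).basicOpen (str Uq.ι (φ b))) :=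
      ((rfHom le_top).comp (str Uq.ι)).toAlgebra
    have : IsLocalization.Away (φ b) Γ((Uq : Scheme.{u}), (Uq : Scheme.{u}).basicOpen (str Uq.ι (φ b))) :=
      isLocalization_chart Uq (φ b) (hU _ (hbm b hb))
    obtain ⟨⟨_, n, rfl⟩, hn⟩ := (IsLocalization.map_eq_zero_iff (Submonoid.powers (φ b))
      Γ((Uq : Scheme.{u}), (Uq : Scheme.{u}).basicOpen (str Uq.ι (φ b))) (φ x)).mp hx
    change φ b ^ n * φ x = 0 at hn
    rw [← map_pow, ← map_mul] at hn
    obtain ⟨t, ht⟩ := (IsLocalization.map_eq_zero_iff q.primeCompl R _).mp hn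
    exact ⟨t, n, t.2, by rw [mul_assoc]; exact ht⟩
  choose l s r hs hr using fun k => hfrac (hq k) (c k)
  choose ci hci using fun k => (hcu k).exists_right_inv
  choose l' s' r' hs' hr' using fun k => hfrac (hq k) (ci k)
  have hinv : ∀ k, ∃ (t : A) (n : ℕ), t ∉ q ∧
      t * D.b k ^ n * (r k * r' k - (s k * D.b k ^ l k) * (s' k * D.b k ^ l' k)) = 0 := fun k => by
    refine hzero (hq k) _ ?_
    rw [map_sub, map_mul (P _) (r k), map_mul (P _) (s k * D.b k ^ l k), ← hr, ← hr']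
    linear_combination (P ((Uq : Scheme.{u}).basicOpen (str Uq.ι (φ (D.b k)))) (s k * D.b k ^ l k) *
      P ((Uq : Scheme.{u}).basicOpen (str Uq.ι (φ (D.b k)))) (s' k * D.b k ^ l' k)) * hci k
  choose ti ni hti hinv using hinv
  choose γ hγ using fun k i => D.span k (D.e i)
  have hcomp : ∀ k i, ∃ (t : A) (n : ℕ), t ∉ q ∧ t * (D.b k * D.b i) ^ n *
      ((s i * D.b i ^ l i) * r k * D.b k - (s k * D.b k ^ l k) * r i * γ k i) = 0 := fun k i => by
    refine hzero (b := D.b k * D.b i) (Ideal.mul_mem_right _ _ (hq k)) _ ?_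
    let O := (Uq : Scheme.{u}).basicOpen (str Uq.ι (φ (D.b k * D.b i)))
    have hOk : O ≤ V k := by simp only [O, V, map_mul, Scheme.basicOpen_mul]; exact inf_le_left
    have hOi : O ≤ V i := by simp only [O, V, map_mul, Scheme.basicOpen_mul]; exact inf_le_right
    have rr : ∀ {W : (Uq : Scheme.{u}).Opens} (h : O ≤ W) (x : A), rf h (P W x) = P O x :=
      fun h x => rf_rf _ _ _
    have e1 : P O (D.b k) * rf hOk (c k) = P O (γ k i) * rf hOi (c i) := by
      refine ((hG k).res hOk O le_rfl).1 ?_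
      simp only [rs_self, rs_rs, mul_smul]
      have h1 := congrArg (rs N hOk) (hc k)
      have h2 := congrArg (rs N hOi) (hc i)
      rw [rs_rs, rs_smul, rs_rs] at h1 h2
      rw [← h1, h2]
      have h3 := congrArg (fun x => rs N (le_top : O ≤ ⊤) (m x)) (hγ k i)
      simp only [hm, rs_smul] at h3
      change P O (D.b k) • rf hOi (c i) • rs N le_top (m (D.e i)) = P O (γ k i) • rf hOi (c i) • rs N le_top (m (D.e k))
      rw [smul_comm, smul_comm (P O (γ k i))]
      exact congrArg (rf hOi (c i) • ·) h3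
    have e2 := congrArg (rfHom hOk) (hr k)
    have e3 := congrArg (rfHom hOi) (hr i)
    rw [map_mul (rfHom hOk)] at e2
    rw [map_mul (rfHom hOi)] at e3
    have e2' : P O (s k * D.b k ^ l k) * rf hOk (c k) = P O (r k) := by
      rw [← rr hOk, ← rr hOk]; exact e2
    have e3' : P O (s i * D.b i ^ l i) * rf hOi (c i) = P O (r i) := by
      rw [← rr hOi, ← rr hOi]; exact e3
    change P O _ = 0
    rw [map_sub, map_mul (P O) _ (D.b k), map_mul (P O) (s i * D.b i ^ l i) (r k), map_mul (P O) _ (γ k i),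
      map_mul (P O) (s k * D.b k ^ l k) (r i), ← e2', ← e3']
    linear_combination (P O (s k * D.b k ^ l k) * P O (s i * D.b i ^ l i)) * e1
  choose tc nc htc hcomp using hcomp
  let S₀ : A := (∏ k, s k * s' k * ti k) * ∏ k, ∏ i, tc k i
  have hS₀ : S₀ ∉ q := by
    simp only [S₀]
    intro h
    rcases (‹q.IsPrime›).mem_or_mem h with h | h
    · obtain ⟨k, -, hk⟩ := Ideal.IsPrime.prod_mem_iff.mp h
      rcases (‹q.IsPrime›).mem_or_mem hk with hk | hk
      · exact ((‹q.IsPrime›).mem_or_mem hk).elim (hs k) (hs' k)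
      · exact hti k hk
    · obtain ⟨k, -, hk⟩ := Ideal.IsPrime.prod_mem_iff.mp h
      obtain ⟨i, -, hi⟩ := Ideal.IsPrime.prod_mem_iff.mp hk
      exact htc k i hi
  let W : X.Opens := (PrimeSpectrum.basicOpen S₀ : X.Opens) ⊓ D.nhd
  let O : Fin D.n → X.Opens := fun k => (PrimeSpectrum.basicOpen S₀ : X.Opens) ⊓ D.chart k
  let Q : ∀ (V : X.Opens), A →+* Γ(X, V) := fun V =>
    (rfHom (le_top : V ≤ ⊤)).comp (Scheme.ΓSpecIso (CommRingCat.of A)).inv.hom
  have hQu : ∀ (V : X.Opens) (x : A), V ≤ PrimeSpectrum.basicOpen x → IsUnit (Q V x) := fun V x hV => by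
    have h1 : IsUnit (rf (le_top : (PrimeSpectrum.basicOpen x : X.Opens) ≤ ⊤)
        ((Scheme.ΓSpecIso (CommRingCat.of A)).inv x)) := by
      let : Algebra A Γ(X, (PrimeSpectrum.basicOpen x : X.Opens)) :=
        ((rfHom (le_top : (PrimeSpectrum.basicOpen x : X.Opens) ≤ ⊤)).comp
          (Scheme.ΓSpecIso (CommRingCat.of A)).inv.hom).toAlgebra
      have : IsLocalization.Away x Γ(X, (PrimeSpectrum.basicOpen x : X.Opens)) :=
        isLocalization_spec (CommRingCat.of A) x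
      exact IsLocalization.Away.algebraMap_isUnit x
    have := h1.map (rfHom hV)
    change IsUnit (rf _ (rf _ _)) at this
    rwa [rf_rf] at this
  have hS₀u : ∀ (V : X.Opens) (x : A), V ≤ (PrimeSpectrum.basicOpen S₀ : X.Opens) → x ∣ S₀ → IsUnit (Q V x) :=
    fun V x hV hx => hQu V x (hV.trans fun w hw h => hw (Ideal.mem_of_dvd _ hx h))
  have hd1 : ∀ k, s k ∣ S₀ ∧ s' k ∣ S₀ ∧ ti k ∣ S₀ := fun k => by
    have := (Finset.dvd_prod_of_mem (fun k => s k * s' k * ti k) (Finset.mem_univ k)).mul_right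
      (∏ k, ∏ i, tc k i)
    exact ⟨((dvd_mul_right _ _).mul_right _).trans this, ((dvd_mul_left _ _).mul_right _).trans this,
      (dvd_mul_left _ _).trans this⟩
  have hd2 : ∀ k i, tc k i ∣ S₀ := fun k i =>
    ((Finset.dvd_prod_of_mem (tc k) (Finset.mem_univ i)).trans
      (Finset.dvd_prod_of_mem (fun k => ∏ i, tc k i) (Finset.mem_univ k))).mul_left _
  have hbu : ∀ (V : X.Opens) k, V ≤ D.chart k → IsUnit (Q V (D.b k)) := fun V k hV => hQu V _ hV
  have hsec : ∀ (V : X.Opens) (x : A) (y : D.M),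
      Q V x • sec (R := CommRingCat.of A) D.modR V y = sec (R := CommRingCat.of A) D.modR V (x • y) :=
    fun V x y => smul_sec (R := CommRingCat.of A) D.modR x y
  have hdu : ∀ k, IsUnit (Q (O k) (s k * D.b k ^ l k)) := fun k => by
    rw [map_mul, map_pow]
    exact (hS₀u _ _ inf_le_left (hd1 k).1).mul ((hbu _ k inf_le_right).pow _)
  choose u hu using hdu
  let σ : ∀ k, Γ(D.sheaf, O k) := fun k =>
    (↑(u k)⁻¹ : Γ(X, O k)) • sec (R := CommRingCat.of A) D.modR (O k) (r k • D.e k)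
  have hσ : ∀ k, IsGen D.sheaf (O k) (σ k) := fun k => by
    have hru : IsUnit (Q (O k) (r k)) := by
      have h1 := congrArg (Q (O k)) (hinv k)
      rw [map_zero, map_mul] at h1
      have h2 : IsUnit (Q (O k) (ti k * D.b k ^ ni k)) := by
        rw [map_mul, map_pow]
        exact (hS₀u _ _ inf_le_left (hd1 k).2.2).mul ((hbu _ k inf_le_right).pow _)
      have h3 := h2.mul_right_eq_zero.mp h1
      rw [map_sub, sub_eq_zero, map_mul (Q (O k)) (r k)] at h3
      refine isUnit_of_mul_isUnit_left (y := Q (O k) (r' k)) ?_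
      rw [h3, map_mul]
      refine IsUnit.mul ?_ ?_
      · rw [← hu k]; exact (u k).isUnit
      rw [map_mul, map_pow]
      exact (hS₀u _ _ inf_le_left (hd1 k).2.1).mul ((hbu _ k inf_le_right).pow _)
    have h := (isGen_sec (R := CommRingCat.of A) D.modR (D.b k) (D.e k) (D.span k) (D.tors k)).res
      (inf_le_right : O k ≤ D.chart k)
    rw [rs_sec] at h
    simp only [σ]
    rw [← hsec]
    exact IsGen_smul_isUnit (IsGen_smul_isUnit h hru) (u k)⁻¹.isUnit
  have hle : ∀ k, O k ≤ W := fun k => inf_le_inf_left _ (le_iSup D.chart k)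
  have hWcov : W ≤ ⨆ k, O k := by
    intro w hw
    obtain ⟨k, hk⟩ := Opens.mem_iSup.mp hw.2
    exact Opens.mem_iSup.mpr ⟨k, hw.1, hk⟩
  obtain ⟨τ', hτ', -⟩ := TopCat.Sheaf.existsUnique_gluing' ⟨D.sheaf.presheaf, D.sheaf.isSheaf⟩ O W
    (fun k => homOfLE (hle k)) hWcov σ fun k i => by
      change rs D.sheaf (inf_le_left : O k ⊓ O i ≤ O k) (σ k) = rs D.sheaf (inf_le_right : O k ⊓ O i ≤ O i) (σ i)
      let V' := O k ⊓ O i
      have hS : V' ≤ (PrimeSpectrum.basicOpen S₀ : X.Opens) := inf_le_left.trans inf_le_left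
      have hk : V' ≤ D.chart k := inf_le_left.trans inf_le_right
      have hi : V' ≤ D.chart i := inf_le_right.trans inf_le_right
      simp only [σ]
      rw [rs_smul, rs_smul, rs_sec, rs_sec]
      refine (((u k).isUnit.map (rfHom (inf_le_left : V' ≤ O k))).mul
        ((u i).isUnit.map (rfHom (inf_le_right : V' ≤ O i)))).smul_left_cancel.mp ?_
      rw [smul_smul, smul_smul, mul_assoc, mul_comm (rfHom (inf_le_right : V' ≤ O i) (u i : Γ(X, O i))),
        ← mul_assoc, mul_right_comm _ _ (rf (inf_le_right : V' ≤ O i) (↑(u i)⁻¹ : Γ(X, O i)))]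
      change (rfHom (inf_le_left : V' ≤ O k) (↑(u k) : Γ(X, O k)) * rfHom (inf_le_left : V' ≤ O k) (↑(u k)⁻¹ : Γ(X, O k)) *
        rfHom (inf_le_right : V' ≤ O i) (↑(u i) : Γ(X, O i))) • _ = _
      rw [← map_mul, Units.mul_inv, map_one, one_mul]
      have hui : rfHom (inf_le_right : V' ≤ O i) (↑(u i) : Γ(X, O i)) = Q V' (s i * D.b i ^ l i) := by
        rw [hu i]; exact rf_rf _ _ _
      have huk : rfHom (inf_le_left : V' ≤ O k) (↑(u k) : Γ(X, O k)) = Q V' (s k * D.b k ^ l k) := by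
        rw [hu k]; exact rf_rf _ _ _
      rw [hui, hsec]
      have hrhs : rfHom (inf_le_left : V' ≤ O k) (↑(u k) : Γ(X, O k)) *
          rf (inf_le_right : V' ≤ O i) (↑(u i)⁻¹ : Γ(X, O i)) *
          Q V' (s i * D.b i ^ l i) = Q V' (s k * D.b k ^ l k) := by
        rw [← hui, mul_assoc]
        change _ * (rfHom _ _ * _) = _
        rw [← map_mul, Units.inv_mul, map_one, mul_one, huk]
      refine Eq.trans ?_ (congrArg (· • sec (R := CommRingCat.of A) D.modR V' (r i • D.e i)) hrhs.symm)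
      show _ = Q V' _ • _
      rw [hsec, ← sub_eq_zero]
      have hN : (tc k i * (D.b k * D.b i) ^ nc k i * D.b k) •
          ((s i * D.b i ^ l i) • r k • D.e k - (s k * D.b k ^ l k) • r i • D.e i) = 0 := by
        rw [mul_smul, smul_sub (D.b k), smul_comm (D.b k) (s k * D.b k ^ l k), smul_comm (D.b k) (r i),
          hγ k i, smul_smul, smul_smul, smul_smul, smul_smul, ← sub_smul, smul_smul]
        rw [show tc k i * (D.b k * D.b i) ^ nc k i *
          (D.b k * (s i * D.b i ^ l i) * r k - s k * D.b k ^ l k * r i * γ k i) = 0 by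
            linear_combination hcomp k i, zero_smul]
      refine ((hS₀u V' _ hS (hd2 k i)).mul ((((hbu V' k hk).mul (hbu V' i hi)).pow (nc k i))) |>.mul
        (hbu V' k hk)).smul_eq_zero.mp ?_
      rw [← map_mul, ← map_pow, ← map_mul, ← map_mul]
      have h5 := congrArg (sec (R := CommRingCat.of A) D.modR V') hN
      rw [← hsec] at h5
      refine (congrArg _ (map_sub (tilde.toOpen (R := CommRingCat.of A) D.modR V').hom _ _).symm).trans (h5.trans ?_)
      exact map_zero (tilde.toOpen (R := CommRingCat.of A) D.modR V').hom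
  refine ⟨S₀, hS₀, τ', Groth.Agent.Lib.TensorMod.GenLocal.isGen_of_forall_exists fun w hw => ?_⟩
  obtain ⟨k, hk⟩ := Opens.mem_iSup.mp (hWcov hw)
  refine ⟨O k, hle k, hk, ?_⟩
  have := hτ' k
  change rs D.sheaf (hle k) τ' = σ k at this
  rw [this]
  exact hσ k

/-- The punctured hypersurface lies in the neighbourhood. -/
theorem Model.mem_nhd_of_mem {q : PrimeSpectrum A} (hfq : f ∈ q.asIdeal)
    (hqm : q.asIdeal ≠ maximalIdeal A) : (show ↥(Spec (CommRingCat.of A)) from q) ∈ D.nhd := by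
  have hr : q ∈ Set.range (PrimeSpectrum.comap (Ideal.Quotient.mk (Ideal.span {f}))) := by
    rw [range_comap_of_surjective _ _ Ideal.Quotient.mk_surjective, PrimeSpectrum.mem_zeroLocus,
      Ideal.mk_ker]
    exact (Ideal.span_singleton_le_iff_mem _).mpr hfq
  obtain ⟨w, rfl⟩ := hr
  exact D.mem_iSup ⟨w, fun h => hqm (congrArg PrimeSpectrum.asIdeal h)⟩

/-- The points of the punctured spectrum outside the neighbourhood. -/
theorem Model.exists_data (hf : f ∈ maximalIdeal A) (q : PrimeSpectrum A)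
    (hqm : q.asIdeal ≠ maximalIdeal A) (hq : ∀ k, D.b k ∈ q.asIdeal) :
    f ∉ q.asIdeal ∧ (∀ q' : Ideal A, q'.IsPrime → q.asIdeal ≤ q' → f ∉ q' → q' = q.asIdeal) ∧
      (∀ p : Ideal A, p.IsPrime → p < q.asIdeal → ∃ k, D.b k ∉ p) ∧
      ∃ s ∉ q.asIdeal, ∀ q' : PrimeSpectrum A, q'.asIdeal ≠ maximalIdeal A →
        (∀ k, D.b k ∈ q'.asIdeal) → s ∉ q'.asIdeal → q' = q := by
  classical
  have hnf : ∀ q : PrimeSpectrum A, q.asIdeal ≠ maximalIdeal A → (∀ k, D.b k ∈ q.asIdeal) → f ∉ q.asIdeal :=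
    fun q hqm hq hfq => by
      obtain ⟨k, hk⟩ := Opens.mem_iSup.mp (D.mem_nhd_of_mem hfq hqm)
      exact hk (hq k)
  have hmax : ∀ q : PrimeSpectrum A, q.asIdeal ≠ maximalIdeal A → (∀ k, D.b k ∈ q.asIdeal) →
      ∀ q' : Ideal A, q'.IsPrime → q.asIdeal < q' → q' = maximalIdeal A := fun q hqm hq q' hq' hlt => by
    by_contra hne
    obtain ⟨P, hP, hle, hfP, hPm⟩ := H80.Divisor.exists_prime_ge_between hlt hne hf
    exact hnf ⟨P, hP⟩ hPm (fun k => hle (hq k)) hfP
  have hgen : ∀ q : PrimeSpectrum A, q.asIdeal ≠ maximalIdeal A → (∀ k, D.b k ∈ q.asIdeal) →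
      ∀ p : Ideal A, p.IsPrime → p < q.asIdeal → ∃ k, D.b k ∉ p := fun q hqm hq p hp hlt => by
    by_contra hn
    push Not at hn
    have hpm : p ≠ maximalIdeal A := fun h =>
      hlt.not_ge (h ▸ le_maximalIdeal q.2.ne_top)
    exact hqm (hmax ⟨p, hp⟩ hpm hn q.asIdeal q.2 hlt)
  refine ⟨hnf q hqm hq, fun q' hq' hle hfq' => ?_, hgen q hqm hq, ?_⟩
  · by_contra hne
    exact hfq' ((hmax q hqm hq q' hq' (lt_of_le_of_ne hle (Ne.symm hne))) ▸ hf)
  let I : Ideal A := Ideal.span (Set.range D.b)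
  have hmin : ∀ q : PrimeSpectrum A, q.asIdeal ≠ maximalIdeal A → (∀ k, D.b k ∈ q.asIdeal) →
      q.asIdeal ∈ I.minimalPrimes := fun q hqm hq =>
    ⟨⟨q.2, Ideal.span_le.mpr (Set.range_subset_iff.mpr hq)⟩, fun p hp hle => by
      by_contra hn
      obtain ⟨k, hk⟩ := hgen q hqm hq p hp.1 (lt_of_le_of_ne hle fun h => hn h.ge)
      exact hk (hp.2 (Ideal.subset_span (Set.mem_range_self k)))⟩
  let Q := (Ideal.finite_minimalPrimes_of_isNoetherianRing A I).toFinset.erase q.asIdeal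
  have hex : ∀ p ∈ Q, ∃ x ∈ p, x ∉ q.asIdeal := fun p hp => by
    obtain ⟨hne, hp⟩ := Finset.mem_erase.mp hp
    rw [Set.Finite.mem_toFinset] at hp
    by_contra hn
    push Not at hn
    exact hne (le_antisymm hn ((hmin q hqm hq).2 hp.1 hn))
  choose x hx hxq using hex
  refine ⟨∏ p ∈ Q.attach, x p.1 p.2, fun h => ?_, fun q' hqm' hq' hs => ?_⟩
  · obtain ⟨p, -, hp⟩ := (q.2.prod_mem_iff).mp h
    exact hxq p.1 p.2 hp
  · by_contra hne
    have hmem : q'.asIdeal ∈ Q := Finset.mem_erase.mpr ⟨fun h => hne (PrimeSpectrum.ext h),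
      (Set.Finite.mem_toFinset _).mpr (hmin q' hqm' hq')⟩
    exact hs (Ideal.mem_of_dvd _ (Finset.dvd_prod_of_mem (fun p : {p // p ∈ Q} => x p.1 p.2)
      (Finset.mem_attach Q ⟨q'.asIdeal, hmem⟩)) (hx _ hmem))

include D in
set_option maxHeartbeats 1000000 in
/-- The line bundle extends to the punctured spectrum. -/
theorem Model.exists_extension (hf : f ∈ maximalIdeal A)
    (htriv : ∀ (q : Ideal A) [q.IsPrime], f ∉ q →
      (∀ (q' : Ideal A), q'.IsPrime → q ≤ q' → f ∉ q' → q' = q) →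
      Formal2.PicTrivial (↑(FEt.puncturedSpec (Localization.AtPrime q)) : Scheme.{u})) :
    ∃ L' : (↑(FEt.puncturedSpec A) : Scheme.{u}).Modules, PicF.IsInvertible L' ∧
      Nonempty ((pb (Formal2.specQuotMap A f ∣_ FEt.puncturedSpec A)).obj L' ≅ L) := by
  classical
  let X := Spec (CommRingCat.of A)
  let U : X.Opens := FEt.puncturedSpec A
  let T := {q : PrimeSpectrum A // q.asIdeal ≠ maximalIdeal A ∧ ∀ k, D.b k ∈ q.asIdeal}
  have hdata := fun q : T => D.exists_data hf q.1 q.2.1 q.2.2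
  choose hfq hqmax hqgen s hs hsu using hdata
  have hgens := fun q : T => D.exists_gen_near q.1.asIdeal q.2.2 (hqgen q)
    (htriv q.1.asIdeal (hfq q) (hqmax q))
  choose S₀ hS₀ σ hσ using hgens
  let Ū : ULift.{u} (Fin D.n) ⊕ T → X.Opens := Sum.elim (fun k => D.chart k.down)
    fun q => PrimeSpectrum.basicOpen (S₀ q * s q)
  let V : ULift.{u} (Fin D.n) ⊕ T → (U : Scheme.{u}).Opens := fun i => U.ι ⁻¹ᵁ Ū i
  let O : (U : Scheme.{u}).Opens := U.ι ⁻¹ᵁ D.nhd
  have hT : ∀ w : (U : Scheme.{u}), w ∉ O →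
      ∀ k, D.b k ∈ (U.ι.base w : PrimeSpectrum A).asIdeal := fun w hw k => by
    by_contra hk
    exact hw (Opens.mem_iSup.mpr ⟨k, hk⟩)
  have hne : ∀ w : (U : Scheme.{u}), (U.ι.base w : PrimeSpectrum A).asIdeal ≠ maximalIdeal A :=
    fun w h => w.2 (PrimeSpectrum.ext h)
  have hlocq : ∀ (q : T) (w : (U : Scheme.{u})), w ∈ V (Sum.inr q) → w ∉ O → U.ι.base w = q.1 :=
    fun q w hw hwO => hsu q _ (hne w) (hT w hwO) fun h => hw (Ideal.mul_mem_left _ _ h)
  have hdisj : ∀ i j, i ≠ j → V i ⊓ V j ≤ O := by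
    intro i j hij w hw
    by_contra hwO
    rcases i with k | q
    · exact hwO (Opens.mem_iSup.mpr ⟨k.down, hw.1⟩)
    rcases j with k | q'
    · exact hwO (Opens.mem_iSup.mpr ⟨k.down, hw.2⟩)
    exact hij (congrArg Sum.inr (Subtype.ext ((hlocq q w hw.1 hwO).symm.trans (hlocq q' w hw.2 hwO))))
  have hcov : iSup V = ⊤ := top_unique fun w _ => by
    by_cases hwO : w ∈ O
    · obtain ⟨k, hk⟩ := Opens.mem_iSup.mp hwO
      exact Opens.mem_iSup.mpr ⟨Sum.inl ⟨k⟩, hk⟩
    · let q : T := ⟨U.ι.base w, hne w, hT w hwO⟩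
      exact Opens.mem_iSup.mpr ⟨Sum.inr q, fun h => (q.1.2.mem_or_mem h).elim (hS₀ q) (hs q)⟩
  let N := (pb U.ι).obj D.sheaf
  have hframe : ∀ i, ∃ g : Γ(N, V i ⊓ O), IsGen N (V i ⊓ O) g := by
    rintro (k | q)
    · exact ⟨_, (isGen_unitSec U.ι (isGen_sec (R := CommRingCat.of A) D.modR (D.b k.down) (D.e k.down)
        (D.span k.down) (D.tors k.down))).res inf_le_left⟩
    · exact ⟨_, (isGen_unitSec U.ι (hσ q)).res
        (fun w (hw : w ∈ V (Sum.inr q) ⊓ O) => ⟨fun h => hw.1 (Ideal.mul_mem_right _ _ h), hw.2⟩)⟩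
  choose g hg using hframe
  obtain ⟨c, hc⟩ := H97.GlueLine.exists_cocycle hdisj g hg
  refine ⟨H97.GlueLine.glue c, H97.GlueLine.isInvertible_glue c hcov, ?_⟩
  let f' := Formal2.specQuotMap A f ∣_ U
  obtain ⟨θ, -⟩ := D.exists_iso
  let θ' : (pb f').obj N ≅ L := (Scheme.Modules.pullbackComp f' U.ι).app D.sheaf ≪≫
    (Scheme.Modules.pullbackCongr (morphismRestrict_ι (Formal2.specQuotMap A f) U)).app D.sheaf ≪≫ θ
  have hO : ∀ p : (U₀ f : Scheme.{u}), p ∈ f' ⁻¹ᵁ O := fun p => by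
    show U.ι.base (f'.base p) ∈ D.nhd
    rw [← Scheme.Hom.comp_apply, morphismRestrict_ι]
    exact D.mem_iSup p
  have hle : ∀ (W : (U : Scheme.{u}).Opens), f' ⁻¹ᵁ W ≤ f' ⁻¹ᵁ (W ⊓ O) := fun W p hp => ⟨hp, hO p⟩
  let l : ∀ i, Γ(L, f' ⁻¹ᵁ V i) := fun i =>
    θ'.hom.app _ (rs ((pb f').obj N) (hle (V i)) (unitSec f' N (g i)))
  refine H97.PullbackLine.nonempty_pullback_glue_iso f' hcov c L l
    (fun i => H52.PushInv.isGen_of_iso θ' ((isGen_unitSec f' (hg i)).res (hle (V i)))) fun i j => ?_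
  have h := congrArg (unitSec f' N) (hc i j (V i ⊓ V j ⊓ O) (inf_le_left.trans inf_le_left)
    (inf_le_left.trans inf_le_right) inf_le_right)
  rw [← unitSec_rs, unitSec_smul, ← unitSec_rs] at h
  have h2 := congrArg (rs ((pb f').obj N) (hle (V i ⊓ V j))) h
  rw [rs_rs, rs_smul, rs_rs] at h2
  simp only [l]
  rw [HomGlue.rs_app, HomGlue.rs_app, rs_rs, rs_rs, ← Scheme.Modules.Hom.app_smul]
  refine congrArg (θ'.hom.app _) (h2.trans ?_)
  congr 1
  rw [H97.GlueLine.Cocycle.tr]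
  simp only [rf]
  rw [Scheme.Hom.app_eq_appLE, Scheme.Hom.app_eq_appLE, ← ConcreteCategory.comp_apply,
    ← ConcreteCategory.comp_apply, Scheme.Hom.appLE_map, Scheme.Hom.map_appLE]

end Groth.Agent.H80.Divisor.Weak
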