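import Groth.Agent.H80.Clopen.LinePunctured
import Mathlib.RingTheory.Ideal.AssociatedPrime.Localization

/-!
# Global sections generating at finitely many points
-/

set_option autoImplicit false
set_option backward.isDefEq.respectTransparency false

universe u

open CategoryTheory CategoryTheory.Limits AlgebraicGeometry IsLocalRing TopologicalSpace Opposite
open Groth.Agent.Lib Groth.Agent.Lib.TensorMod Groth.Agent.Lib.TensorMod.Dual
open Groth.Agent.Lib.TensorMod.Gen Groth.Agent.Lib.TensorMod.Pullback Groth.Agent.Lib.Ample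
open Groth.Agent.Lib.Ample.GenLocus

namespace Groth.Agent.H80.Divisor.Weak

open Groth.Agent.H80.Clopen

variable {B : Type u} [CommRing B]

/-- A basic open inside an open containing finitely many points. -/
theorem exists_basicOpen_superset (W : (Spec (CommRingCat.of B)).Opens)
    (F : Finset (PrimeSpectrum B)) (hF : ∀ p ∈ F, p ∈ W) :
    ∃ b : B, PrimeSpectrum.basicOpen b ≤ W ∧ ∀ p ∈ F, b ∉ p.asIdeal := by
  classical
  let I : Ideal B := PrimeSpectrum.vanishingIdeal (W.1 : Set (PrimeSpectrum B))ᶜ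
  have hZ : PrimeSpectrum.zeroLocus (I : Set B) = (W.1 : Set (PrimeSpectrum B))ᶜ := by
    rw [PrimeSpectrum.zeroLocus_vanishingIdeal_eq_closure]
    exact IsClosed.closure_eq (X := PrimeSpectrum B) (isClosed_compl_iff.mpr W.2)
  by_contra h
  push Not at h
  have hsub : (I : Set B) ⊆ ⋃ p ∈ (↑F : Set (PrimeSpectrum B)), (p.asIdeal : Set B) := fun b hb => by
    obtain ⟨p, hp, hbp⟩ := h b fun x hx => by
      by_contra hxW
      exact hx (PrimeSpectrum.mem_vanishingIdeal _ _ |>.mp hb x hxW)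
    exact Set.mem_iUnion₂.mpr ⟨p, hp, hbp⟩
  obtain ⟨p₀, -, -⟩ := h 0 (by rw [PrimeSpectrum.basicOpen_zero]; exact bot_le)
  obtain ⟨p, hp, hIp⟩ := (Ideal.subset_union_prime (s := F) (f := fun p => p.asIdeal)
    p₀ p₀ fun p _ _ _ => p.2).mp hsub
  have : p ∈ PrimeSpectrum.zeroLocus (I : Set B) := hIp
  rw [hZ] at this
  exact this (hF p hp)

variable [IsNoetherianRing B] (U₀ : (Spec (CommRingCat.of B)).Opens) {L : (U₀ : Scheme.{u}).Modules}

/-- A global section generating near finitely many points. -/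
theorem exists_sec_gen (hL : PicF.IsInvertible L) (F : Finset ↥(U₀ : Scheme.{u})) :
    ∃ σ : Γ(L, ⊤), ∀ p ∈ F, ∃ W : (U₀ : Scheme.{u}).Opens, p ∈ W ∧
      IsGen L W (rs L le_top σ) := by
  classical
  have hcompact : CompactSpace ↥(U₀ : Scheme.{u}) := isCompact_iff_compactSpace.mp
    (TopologicalSpace.NoetherianSpace.isCompact (α := PrimeSpectrum B) _)
  have hqs : QuasiSeparatedSpace ↥(U₀ : Scheme.{u}) := quasiSeparatedSpace_of_quasiSeparated U₀.ι
  have : L.IsQuasicoherent := QCohInv.isQCoh_of_isInvertible hL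
  let idl : ↥(U₀ : Scheme.{u}) → Ideal B := fun p => (U₀.ι.base p : PrimeSpectrum B).asIdeal
  have hidl : ∀ p, (idl p).IsPrime := fun p => (U₀.ι.base p : PrimeSpectrum B).2
  have hmem : ∀ (b : B) p, p ∈ (U₀ : Scheme.{u}).basicOpen (str U₀.ι b) ↔ b ∉ idl p := fun b p => by
    rw [basicOpen_str]; rfl
  have hloc : ∀ p : ↥(U₀ : Scheme.{u}), ∃ (m : Γ(L, ⊤)) (W : (U₀ : Scheme.{u}).Opens), p ∈ W ∧
      IsGen L W (rs L le_top m) := fun p => by
    obtain ⟨W, e, hpW, he⟩ := isInvertible_iff.mp hL p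
    obtain ⟨_, ⟨_, ⟨b, rfl⟩, rfl⟩, hpb, hbW⟩ := PrimeSpectrum.isBasis_basic_opens.exists_subset_of_mem_open
      (show U₀.ι.base p ∈ ((U₀.ι ''ᵁ W).1 : Set (PrimeSpectrum B)) from
        ⟨p, hpW, rfl⟩) (U₀.ι ''ᵁ W).2
    have hle : (U₀ : Scheme.{u}).basicOpen (str U₀.ι b) ≤ W := by
      rw [basicOpen_str]
      intro q hq
      obtain ⟨q', hq', h⟩ := hbW hq
      exact (U₀.ι.isOpenEmbedding.injective h) ▸ hq'
    have hL' := QCoh.Localizing.localizes_of_qcqs (M := L) (U := ⊤) isCompact_univ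
      isQuasiSeparated_univ (str U₀.ι b)
    obtain ⟨n, m, hm⟩ := hL'.ext' (rs L hle e)
    refine ⟨m, _, (hmem b p).mpr hpb, ?_⟩
    refine (iff_of_eq (congrArg (IsGen L _) hm)).mpr ?_
    exact IsGen_smul_isUnit (he.res hle) (((U₀ : Scheme.{u}).toRingedSpace.isUnit_res_basicOpen
      (str U₀.ι b)).pow n)
  choose m W hpW hm using hloc
  let Mx : Finset ↥(U₀ : Scheme.{u}) := F.filter fun p => ∀ p' ∈ F, idl p ≤ idl p' → idl p' ≤ idl p
  have hd : ∀ p ∈ Mx, ∃ d, (∀ p' ∈ Mx, p' ≠ p → d ∈ idl p') ∧ d ∉ idl p := fun p hp => by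
    have h1 : ¬ (∏ p' ∈ Mx.erase p, idl p') ≤ idl p := fun h => by
      obtain ⟨p', hp', hle⟩ := (Ideal.IsPrime.prod_le (hidl p)).mp h
      obtain ⟨hne, hp'M⟩ := Finset.mem_erase.mp hp'
      have hle' := (Finset.mem_filter.mp hp'M).2 p (Finset.mem_filter.mp hp).1 hle
      exact hne (U₀.ι.isOpenEmbedding.injective (PrimeSpectrum.ext (le_antisymm hle hle')))
    obtain ⟨d, hd, hdp⟩ := SetLike.not_le_iff_exists.mp h1
    exact ⟨d, fun p' hp' hne => Ideal.le_of_dvd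
      (Finset.dvd_prod_of_mem _ (Finset.mem_erase.mpr ⟨hne, hp'⟩)) hd, hdp⟩
  choose! d hd₁ hd₂ using hd
  refine ⟨∑ p ∈ Mx, str U₀.ι (d p) • m p, fun p hp => ?_⟩
  obtain ⟨p₁, hle, hmax⟩ : ∃ p₁ ∈ Mx, idl p ≤ idl p₁ := by
    obtain ⟨I, hle, hmax⟩ := (F.image idl).exists_le_maximal (Finset.mem_image_of_mem idl hp)
    obtain ⟨p₁, hp₁, rfl⟩ := Finset.mem_image.mp hmax.1
    exact ⟨p₁, Finset.mem_filter.mpr ⟨hp₁, fun p' hp' h => hmax.2 (Finset.mem_image_of_mem idl hp') h⟩, hle⟩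
  choose c hc using fun p' => GenLocus.exists_coord (hm p₁) (rs L le_top (m p'))
  let cσ := ∑ p' ∈ Mx, rf (le_top : W p₁ ≤ ⊤) (str U₀.ι (d p')) * c p'
  have hσ : rs L (le_top : W p₁ ≤ ⊤) (∑ p' ∈ Mx, str U₀.ι (d p') • m p') = cσ • rs L le_top (m p₁) := by
    rw [show rs L (le_top : W p₁ ≤ ⊤) (∑ p' ∈ Mx, str U₀.ι (d p') • m p') =
      ∑ p' ∈ Mx, rs L (le_top : W p₁ ≤ ⊤) (str U₀.ι (d p') • m p') from
      map_sum (L.presheaf.map (homOfLE (le_top : W p₁ ≤ ⊤)).op).hom _ _, Finset.sum_smul]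
    refine Finset.sum_congr rfl fun p' _ => ?_
    rw [rs_smul, hc, smul_smul]
  refine ⟨(U₀ : Scheme.{u}).basicOpen cσ, ?_, ?_⟩
  · have hp₁ : p₁ ∈ (U₀ : Scheme.{u}).basicOpen cσ := by
      rw [Scheme.mem_basicOpen _ _ p₁ (hpW p₁)]
      simp only [cσ, map_sum, map_mul]
      rw [← Finset.add_sum_erase _ _ hle]
      have hnon : ∀ x, x ∈ maximalIdeal ((U₀ : Scheme.{u}).presheaf.stalk p₁) ↔ ¬ IsUnit x := fun x => Iff.rfl
      have hgerm : ∀ b : B, IsUnit ((U₀ : Scheme.{u}).presheaf.germ (W p₁) p₁ (hpW p₁)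
          (rf (le_top : W p₁ ≤ ⊤) (str U₀.ι b))) ↔ b ∉ idl p₁ := fun b => by
        rw [← hmem b p₁, Scheme.mem_basicOpen _ _ p₁ (show p₁ ∈ (⊤ : (U₀ : Scheme.{u}).Opens) from trivial)]
        exact iff_of_eq (congrArg IsUnit ((U₀ : Scheme.{u}).presheaf.germ_res_apply
          (homOfLE (le_top : W p₁ ≤ ⊤)) p₁ (hpW p₁) _))
      have h1 : c p₁ = 1 := (hm p₁ (W p₁) le_rfl).1 (by
        simp only [rs_self, one_smul]
        exact (hc p₁).symm)
      have hu : IsUnit ((U₀ : Scheme.{u}).presheaf.germ (W p₁) p₁ (hpW p₁)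
          (rf (le_top : W p₁ ≤ ⊤) (str U₀.ι (d p₁))) *
          (U₀ : Scheme.{u}).presheaf.germ (W p₁) p₁ (hpW p₁) (c p₁)) := by
        rw [h1, map_one, mul_one]
        exact (hgerm _).mpr (hd₂ p₁ hle)
      by_contra hn
      rw [← hnon] at hn
      refine (hnon _).mp ((Submodule.add_mem_iff_left _ (sum_mem fun p' hp' => ?_)).mp hn) hu
      obtain ⟨hne, hp'M⟩ := Finset.mem_erase.mp hp'
      exact Ideal.mul_mem_right _ _ ((hnon _).mpr fun h => (hgerm _).mp h (hd₁ p' hp'M p₁ hle (Ne.symm hne)))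
    refine Specializes.mem_open (x := p) ?_ ((U₀ : Scheme.{u}).basicOpen cσ).2 hp₁
    rw [← U₀.ι.isOpenEmbedding.toIsInducing.specializes_iff]
    exact (PrimeSpectrum.le_iff_specializes _ _).mp hmax
  · have h2 := congrArg (rs L ((U₀ : Scheme.{u}).basicOpen_le cσ)) hσ
    rw [rs_rs, rs_smul, rs_rs] at h2
    rw [h2]
    exact IsGen_smul_isUnit (by simpa only [rs_rs] using (hm p₁).res ((U₀ : Scheme.{u}).basicOpen_le cσ))
      (RingedSpace.isUnit_res_basicOpen _ cσ)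

/-- Elements avoiding the associated primes of the punctured part are torsion-regular. -/
theorem exists_pow_mul_eq_zero {a t y : B} (hQ : ∀ Q ∈ associatedPrimes B B, a ∉ Q → t ∉ Q)
    (h : t * y = 0) : ∃ l, a ^ l * y = 0 := by
  let N : Submodule B B := Submodule.span B {y}
  suffices ha : a ∈ (Module.annihilator B N).radical by
    obtain ⟨l, hl⟩ := ha
    exact ⟨l, congrArg Subtype.val (Module.mem_annihilator.mp hl ⟨y, Submodule.mem_span_singleton_self y⟩)⟩
  rw [← Ideal.sInf_minimalPrimes, Submodule.mem_sInf]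
  intro P hP
  have := Module.Finite.iff_fg.mpr (Submodule.fg_span_singleton (R := B) y)
  have hA : P ∈ associatedPrimes B B := associatedPrimes.subset_of_injective N.injective_subtype
    (Module.associatedPrimes.minimalPrimes_annihilator_subset_associatedPrimes B N hP)
  by_contra haP
  refine hQ P hA haP (hP.1.2 (Module.mem_annihilator.mpr ?_))
  rintro ⟨z, hz⟩
  obtain ⟨c, rfl⟩ := Submodule.mem_span_singleton.mp hz
  ext1
  simp only [SetLike.val_smul, smul_eq_mul, ZeroMemClass.coe_zero]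
  rw [mul_left_comm, h, mul_zero]

end Groth.Agent.H80.Divisor.Weak
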