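import Groth.Agent.H80.Divisor.Weak.Sections
import Groth.Agent.H80.Divisor.Weak.GenSec
import Groth.Prelude.Def_Formal2

/-!
# The module of a line bundle on the punctured hypersurface
-/

set_option autoImplicit false
set_option backward.isDefEq.respectTransparency false

universe u

open CategoryTheory CategoryTheory.Limits AlgebraicGeometry IsLocalRing TopologicalSpace Opposite
open Groth.Agent.Lib Groth.Agent.Lib.TensorMod Groth.Agent.Lib.TensorMod.Dual
open Groth.Agent.Lib.TensorMod.Gen Groth.Agent.Lib.TensorMod.Pullback Groth.Agent.Lib.Ample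
open Groth.Agent.Lib.Ample.GenLocus

namespace Groth.Agent.H80.Divisor.Weak

open Groth.Agent.H80.Clopen Groth.Agent.H80.Divisor

variable {A : Type u} [CommRing A]

/-- The punctured hypersurface. -/
noncomputable abbrev U₀ [IsLocalRing A] (f : A) : (Spec (CommRingCat.of (A ⧸ Ideal.span {f}))).Opens :=
  Formal2.specQuotMap A f ⁻¹ᵁ FEt.puncturedSpec A

/-- The functions of `A` on the punctured hypersurface. -/
noncomputable abbrev strA [IsLocalRing A] (f : A) : A →+* Γ((U₀ f : Scheme.{u}), ⊤) :=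
  (str (U₀ f).ι).comp (Ideal.Quotient.mk (Ideal.span {f}))

/-- A module with charts. -/
structure Model (A : Type u) [CommRing A] [IsLocalRing A] (f : A)
    (L : (U₀ f : Scheme.{u}).Modules) where
  M : Type u
  [addCommGroup : AddCommGroup M]
  [module : Module A M]
  n : ℕ
  b : Fin n → A
  e : Fin n → M
  mem : ∀ k, b k ∈ maximalIdeal A
  span : ∀ k (x : M), ∃ c : A, b k • x = c • e k
  tors : ∀ k (c : A), c • e k = 0 → b k * c = 0
  cov : ∀ p : (U₀ f : Scheme.{u}), ∃ k, p ∈ (U₀ f : Scheme.{u}).basicOpen (strA f (b k))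
  Φ : M →+ Γ(L, ⊤)
  Φ_smul : ∀ (r : A) (x : M), Φ (r • x) = strA f r • Φ x
  gen : ∀ k, IsGen L ((U₀ f : Scheme.{u}).basicOpen (strA f (b k))) (rs L le_top (Φ (e k)))

attribute [instance] Model.addCommGroup Model.module

variable [IsNoetherianRing A] [IsLocalRing A] (f : A)

set_option maxHeartbeats 2000000 in
/-- Line bundles on the punctured hypersurface have models. -/
theorem nonempty_model (hf : f ∈ maximalIdeal A) [IsAdicComplete (Ideal.span {f}) A]
    (hnzd : f ∈ nonZeroDivisors A)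
    (h₁ : Module.Finite A (LocCoh.H (maximalIdeal A) 1 (A ⧸ Ideal.span {f})))
    (h₂ : Module.Finite A (LocCoh.H (maximalIdeal A) 2 (A ⧸ Ideal.span {f})))
    (h₃ : Subsingleton (LocCoh.H (maximalIdeal A) 3 (A ⧸ Ideal.span {f})))
    (L : (U₀ f : Scheme.{u}).Modules) (hL : PicF.IsInvertible L) : Nonempty (Model A f L) := by
  classical
  let B := A ⧸ Ideal.span {f}
  let π : A →+* B := Ideal.Quotient.mk (Ideal.span {f})
  have hπ : Function.Surjective π := Ideal.Quotient.mk_surjective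
  have : Nontrivial B := Ideal.Quotient.nontrivial_iff.mpr
    fun h => (maximalIdeal.isMaximal A).ne_top (top_le_iff.mp (h ▸ (Ideal.span_singleton_le_iff_mem _).mpr hf))
  have : IsLocalRing B := IsLocalRing.of_surjective' π hπ
  have : IsLocalHom π := IsLocalHom.of_surjective π hπ
  have hclosed : ∀ w : PrimeSpectrum B, w ∈ U₀ f ↔ w.asIdeal ≠ maximalIdeal B := fun w => by
    refine not_congr ⟨fun h => ?_, fun h => ?_⟩
    · exact congrArg PrimeSpectrum.asIdeal (PrimeSpectrum.comap_injective_of_surjective _ hπ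
        (h.trans (IsLocalRing.comap_closedPoint π).symm))
    · rw [show w = closedPoint B from PrimeSpectrum.ext h]
      exact IsLocalRing.comap_closedPoint π
  -- the points to be avoided
  have hFfin : {p : (U₀ f : Scheme.{u}) |
      ((U₀ f).ι.base p : PrimeSpectrum B).asIdeal ∈ associatedPrimes B B}.Finite :=
    (associatedPrimes.finite B B).preimage fun p _ q _ h =>
      (U₀ f).ι.isOpenEmbedding.injective (PrimeSpectrum.ext h)
  let F := hFfin.toFinset
  let idl : ↥(U₀ f : Scheme.{u}) → Ideal B := fun p => ((U₀ f).ι.base p : PrimeSpectrum B).asIdeal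
  have hmem : ∀ (b : B) p, p ∈ (U₀ f : Scheme.{u}).basicOpen (str (U₀ f).ι b) ↔ b ∉ idl p :=
    fun b p => by rw [basicOpen_str]; rfl
  obtain ⟨σo, hσo⟩ := exists_sec_gen (U₀ f) hL F
  have hchart : ∀ p : (U₀ f : Scheme.{u}), ∃ (b : B) (σ : Γ(L, ⊤)), b ∉ idl p ∧ b ∈ maximalIdeal B ∧
      (∀ q ∈ F, b ∉ idl q) ∧ IsGen L ((U₀ f : Scheme.{u}).basicOpen (str (U₀ f).ι b)) (rs L le_top σ) := by
    intro p
    obtain ⟨σ, hσ⟩ := exists_sec_gen (U₀ f) hL (insert p F)
    choose W hqW hW using hσ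
    let O : (U₀ f : Scheme.{u}).Opens := ⨆ q : {q // q ∈ insert p F}, W q.1 q.2
    have hO : IsGen L O (rs L le_top σ) := Groth.Agent.Lib.TensorMod.GenLocal.isGen_of_forall_exists
      fun x hx => by
        obtain ⟨q, hxq⟩ := Opens.mem_iSup.mp hx
        refine ⟨W q.1 q.2, le_iSup (fun q : {q // q ∈ insert p F} => W q.1 q.2) q, hxq, ?_⟩
        rw [rs_rs]
        exact hW q.1 q.2
    obtain ⟨b, hbO, hb⟩ := exists_basicOpen_superset ((U₀ f).ι ''ᵁ O)
      ((insert p F).image fun q => ((U₀ f).ι.base q : PrimeSpectrum B)) fun w hw => by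
        obtain ⟨q, hq, rfl⟩ := Finset.mem_image.mp hw
        exact ⟨q, Opens.mem_iSup.mpr ⟨⟨q, hq⟩, hqW q hq⟩, rfl⟩
    have hle : (U₀ f : Scheme.{u}).basicOpen (str (U₀ f).ι b) ≤ O := by
      rw [basicOpen_str]
      intro q hq
      obtain ⟨q', hq', h⟩ := hbO hq
      exact ((U₀ f).ι.isOpenEmbedding.injective h) ▸ hq'
    refine ⟨b, σ, hb _ (Finset.mem_image_of_mem _ (Finset.mem_insert_self p F)), ?_,
      fun q hq => hb _ (Finset.mem_image_of_mem _ (Finset.mem_insert_of_mem hq)), ?_⟩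
    · by_contra hu
      rw [mem_maximalIdeal, mem_nonunits_iff, not_not] at hu
      obtain ⟨q', -, hq'⟩ := hbO (show (closedPoint B : PrimeSpectrum B) ∈ PrimeSpectrum.basicOpen b
        from fun hm => hm hu)
      exact (hclosed _).mp q'.2 (congrArg PrimeSpectrum.asIdeal hq')
    · have := hO.res hle
      rwa [rs_rs] at this
  choose bp σp hbp hbpm hbpF hσp using hchart
  have hcompact : CompactSpace ↥(U₀ f : Scheme.{u}) := isCompact_iff_compactSpace.mp
    (TopologicalSpace.NoetherianSpace.isCompact (α := PrimeSpectrum B) _)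
  obtain ⟨t, ht⟩ := CompactSpace.elim_nhds_subcover
    (fun p => ((U₀ f : Scheme.{u}).basicOpen (str (U₀ f).ι (bp p)) : Set (U₀ f : Scheme.{u})))
    (fun p => IsOpen.mem_nhds (Opens.isOpen _) ((hmem _ _).mpr (hbp p)))
  choose a ha using fun i : Fin t.card => hπ (bp (t.equivFin.symm i).1)
  let σ : Fin t.card → Γ(L, ⊤) := fun i => σp (t.equivFin.symm i).1
  let V : Fin t.card → (U₀ f : Scheme.{u}).Opens := fun i =>
    (U₀ f : Scheme.{u}).basicOpen (strA f (a i))
  have hV : ∀ i, V i = (U₀ f : Scheme.{u}).basicOpen (str (U₀ f).ι (bp (t.equivFin.symm i).1)) :=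
    fun i => by simp only [V, ← ha i]; rfl
  have hσ : ∀ i, IsGen L (V i) (rs L le_top (σ i)) := fun i => by
    rw [hV i]; exact hσp _
  have hcov : ∀ p : (U₀ f : Scheme.{u}), ∃ i, p ∈ V i := fun p => by
    have : p ∈ (⊤ : Set (U₀ f : Scheme.{u})) := trivial
    rw [← ht] at this
    obtain ⟨q, hq, hpq⟩ := Set.mem_iUnion₂.mp this
    refine ⟨t.equivFin ⟨q, hq⟩, ?_⟩
    rw [hV, Equiv.symm_apply_apply]
    exact hpq
  rcases isEmpty_or_nonempty (Fin t.card) with hemp | ⟨⟨o⟩⟩
  · exact ⟨{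
      M := PUnit, n := 0, b := Fin.elim0, e := Fin.elim0, mem := fun k => k.elim0,
      span := fun k => k.elim0, tors := fun k => k.elim0,
      cov := fun p => isEmptyElim (hcov p).choose,
      Φ := 0, Φ_smul := fun r x => (smul_zero _).symm, gen := fun k => k.elim0 }⟩
  have haF : ∀ i, ∀ Q ∈ associatedPrimes B B, Q ≠ maximalIdeal B → π (a i) ∉ Q := fun i Q hQ hQm => by
    let p : (U₀ f : Scheme.{u}) := ⟨⟨Q, IsAssociatedPrime.isPrime hQ⟩, (hclosed _).mpr hQm⟩
    rw [ha i]
    exact hbpF _ p (hFfin.mem_toFinset.mpr hQ)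
  have ham : ∀ i, a i ∈ maximalIdeal A := fun i => by
    have := hbpm (t.equivFin.symm i).1
    rw [← ha i, mem_maximalIdeal, mem_nonunits_iff] at this
    exact fun hu => this (hu.map π)
  -- the localisation
  let T : Submonoid A :=
    { carrier := {t | ∀ Q ∈ associatedPrimes B B, Q ≠ maximalIdeal B → π t ∉ Q}
      mul_mem' := fun {s t} hs ht Q hQ hQm h => by
        rw [map_mul] at h
        exact ((IsAssociatedPrime.isPrime hQ).mem_or_mem h).elim (hs Q hQ hQm) (ht Q hQ hQm)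
      one_mem' := fun Q hQ _ h => (IsAssociatedPrime.isPrime hQ).ne_top
        ((Ideal.eq_top_iff_one Q).mpr (by simpa using h)) }
  have hπz : ∀ {x : A}, π x = 0 ↔ f ∣ x := fun {x} =>
    Ideal.Quotient.eq_zero_iff_mem.trans Ideal.mem_span_singleton
  have S : Setup f a T :=
    { f_reg := fun x hx => (mem_nonZeroDivisors_iff.mp hnzd).1 x hx
      a_mem := haF
      add_mem := fun t ht z Q hQ hQm => by
        rw [map_add, map_mul, show π f = 0 from hπz.mpr dvd_rfl, zero_mul, add_zero]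
        exact ht Q hQ hQm
      tors := fun s hs x hx i => by
        obtain ⟨l, hl⟩ := exists_pow_mul_eq_zero (a := π (a i)) (t := π s) (y := π x)
          (fun Q hQ hai => hs Q hQ fun h => hai (by
            rw [h, ha i]; exact hbpm _)) (by rw [← map_mul]; exact hπz.mpr hx)
        exact ⟨l, hπz.mp (by rw [map_mul, map_pow]; exact hl)⟩ }
  let K := Localization T
  let φ := algebraMap A K
  have hha : maximalIdeal A ≤ (Ideal.span (Set.range a) ⊔ Ideal.span {f}).radical := by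
    rw [Ideal.radical_eq_sInf]
    refine le_sInf fun P ⟨hle, hP⟩ => ?_
    by_contra hne
    have hker : RingHom.ker π ≤ P := by
      rw [Ideal.mk_ker]; exact le_sup_right.trans hle
    have hPp := Ideal.map_isPrime_of_surjective (f := π) hπ hker
    have hcm : (P.map π).comap π = P := by
      rw [Ideal.comap_map_of_surjective π hπ, ← RingHom.ker_eq_comap_bot]
      exact sup_eq_left.mpr hker
    obtain ⟨i, hi⟩ := hcov ⟨⟨P.map π, hPp⟩, (hclosed _).mpr fun h => hne (by
      rw [← hcm, show P.map π = maximalIdeal B from h]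
      exact (IsLocalRing.maximalIdeal_comap π).ge)⟩
    exact (hmem _ _).mp hi (Ideal.mem_map_of_mem π (hle (Submodule.mem_sup_left (Ideal.subset_span ⟨i, rfl⟩))))
  have hH2 := h2K_of_locCoh (K := K) hf ham hha S h₃
  have hAdd := addFG_of_locCoh (K := K) hf ham hha S h₂
  have hGlob := globFG_of_locCoh (K := K) hf ham hha S h₁
  -- charts
  have haU : ∀ b : B, b ∈ maximalIdeal B → PrimeSpectrum.basicOpen b ≤ U₀ f := fun b hb w hw =>
    (hclosed w).mpr fun h => hw (h.symm ▸ hb)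
  let alg : ∀ b : B, Algebra B Γ((U₀ f : Scheme.{u}), (U₀ f : Scheme.{u}).basicOpen (str (U₀ f).ι b)) :=
    fun b => ((rfHom le_top).comp (str (U₀ f).ι)).toAlgebra
  have hlocz : ∀ {b : A}, b ∈ maximalIdeal A → ∀ (x : A),
      rf (le_top : (U₀ f : Scheme.{u}).basicOpen (strA f b) ≤ ⊤) (strA f x) = 0 ↔ ∃ l, f ∣ b ^ l * x := by
    intro b hb x
    have : IsLocalization.Away (π b) Γ((U₀ f : Scheme.{u}), (U₀ f : Scheme.{u}).basicOpen (strA f b)) :=
      isLocalization_chart (U₀ f) (π b) (haU _ (by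
        rw [mem_maximalIdeal, mem_nonunits_iff]; exact fun hu => hb (isUnit_of_map_unit π b hu)))
    refine (IsLocalization.map_eq_zero_iff (Submonoid.powers (π b)) _ (π x)).trans ?_
    refine ⟨?_, ?_⟩
    · rintro ⟨⟨_, l, rfl⟩, hl⟩
      exact ⟨l, hπz.mp (by rw [map_mul, map_pow]; exact hl)⟩
    · rintro ⟨l, hl⟩
      exact ⟨⟨_, l, rfl⟩, by change π b ^ l * π x = 0; rw [← map_pow, ← map_mul]; exact hπz.mpr hl⟩
  have vanish : ∀ {b : A} (i : Fin t.card), b ∈ maximalIdeal A → a i ∣ b → ∀ {x : A},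
      (∃ r, φ x = φ f * r) → rf (le_top : (U₀ f : Scheme.{u}).basicOpen (strA f b) ≤ ⊤) (strA f x) = 0 := by
    intro b i hb hib x ⟨r, hr⟩
    obtain ⟨l, hl⟩ := S.exists_pow_dvd (n := 1) (z := x) (r := r) (by rw [pow_one]; exact hr) i
    obtain ⟨c, rfl⟩ := hib
    rw [hlocz hb]
    exact ⟨l, by rw [mul_pow, mul_right_comm]; rw [pow_one] at hl; exact hl.mul_right _⟩
  have hfrac : ∀ {b : A}, b ∈ maximalIdeal A →
      ∀ c : Γ((U₀ f : Scheme.{u}), (U₀ f : Scheme.{u}).basicOpen (strA f b)),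
        ∃ (l : ℕ) (z : A), rf le_top (strA f (b ^ l)) * c = rf le_top (strA f z) := by
    intro b hb c
    have : IsLocalization.Away (π b) Γ((U₀ f : Scheme.{u}), (U₀ f : Scheme.{u}).basicOpen (strA f b)) :=
      isLocalization_chart (U₀ f) (π b) (haU _ (by
        rw [mem_maximalIdeal, mem_nonunits_iff]; exact fun hu => hb (isUnit_of_map_unit π b hu)))
    obtain ⟨⟨z', _, l, rfl⟩, hz⟩ := IsLocalization.surj (Submonoid.powers (π b)) c
    obtain ⟨z, rfl⟩ := hπ z'
    refine ⟨l, z, ?_⟩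
    rw [mul_comm]
    refine Eq.trans ?_ hz
    refine congrArg (c * ·) ?_
    change rf le_top (str (U₀ f).ι (π (b ^ l))) = rf le_top (str (U₀ f).ι (π b ^ l))
    rw [map_pow π]
  choose c hc using fun i => GenLocus.exists_coord (hσ i) (rs L le_top σo)
  choose l z hz using fun i => hfrac (ham i) (c i)
  have hzT : ∀ i, z i ∈ T := fun i Q hQ hQm hzQ => by
    let p : (U₀ f : Scheme.{u}) := ⟨⟨Q, IsAssociatedPrime.isPrime hQ⟩, (hclosed _).mpr hQm⟩
    have hpV : p ∈ V i := (hmem _ _).mpr (haF i Q hQ hQm)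
    obtain ⟨W, hpW, hW⟩ := hσo p (hFfin.mem_toFinset.mpr hQ)
    have hpO : p ∈ V i ⊓ W := ⟨hpV, hpW⟩
    have hu : IsUnit (rf (inf_le_left : V i ⊓ W ≤ V i) (c i)) := by
      refine isUnit_of_isGen_smul ((hσ i).res inf_le_left) ?_
      rw [← rs_smul, ← hc i, rs_rs]
      simpa only [rs_rs] using hW.res (inf_le_right : V i ⊓ W ≤ W)
    have hz2 := congrArg (rf (inf_le_left : V i ⊓ W ≤ V i)) (hz i)
    have hzu : IsUnit (rf (inf_le_left : V i ⊓ W ≤ V i) (rf le_top (strA f (z i)))) := by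
      rw [← hz2]
      change IsUnit (rfHom (inf_le_left : V i ⊓ W ≤ V i) (rfHom le_top (strA f (a i ^ l i)) * c i))
      rw [map_mul, map_pow, map_pow, map_pow]
      exact ((((U₀ f : Scheme.{u}).toRingedSpace.isUnit_res_basicOpen (strA f (a i))).map
        (rfHom (inf_le_left : V i ⊓ W ≤ V i))).pow _).mul hu
    rw [rf_rf] at hzu
    exact (hmem _ _).mp ((Scheme.mem_basicOpen _ _ p (show p ∈ (⊤ : (U₀ f : Scheme.{u}).Opens) from trivial)).mpr (by
      have := hzu.map ((U₀ f : Scheme.{u}).presheaf.germ (V i ⊓ W) p hpO).hom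
      rwa [show ((U₀ f : Scheme.{u}).presheaf.germ (V i ⊓ W) p hpO).hom (rf le_top (strA f (z i))) =
        (U₀ f : Scheme.{u}).presheaf.germ ⊤ p trivial (strA f (z i)) from
        (U₀ f : Scheme.{u}).presheaf.germ_res_apply (homOfLE le_top) p hpO _] at this)) hzQ
  let g : Fin t.card → Kˣ := fun i => (IsLocalization.map_units K (⟨z i, hzT i⟩ : T)).unit *
    (((S.isUnit_a (K := K) i).pow (l i)).unit)⁻¹
  have hgz : ∀ i, φ (a i) ^ l i * (g i : K) = φ (z i) := fun i => by
    have e := ((S.isUnit_a (K := K) i).pow (l i)).unit.mul_inv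
    simp only [IsUnit.unit_spec] at e
    simp only [g, Units.val_mul, IsUnit.unit_spec, φ]
    linear_combination algebraMap A K (z i) * e
  have hsmul : ∀ {W O : (U₀ f : Scheme.{u}).Opens} (h : W ≤ O) (x : Γ((U₀ f : Scheme.{u}), O))
      (s : Γ(L, O)), rs L h (x • s) = rf h x • rs L h s := fun h x s => rs_smul L h x s
  have htrans : ∀ i j, ∃ (m : ℕ) (w : A),
      rf (le_top : (U₀ f : Scheme.{u}).basicOpen (strA f (a i * a j)) ≤ ⊤) (strA f ((a i * a j) ^ m)) •
        rs L (le_top : (U₀ f : Scheme.{u}).basicOpen (strA f (a i * a j)) ≤ ⊤) (σ j) =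
        rf (le_top : (U₀ f : Scheme.{u}).basicOpen (strA f (a i * a j)) ≤ ⊤) (strA f w) •
        rs L (le_top : (U₀ f : Scheme.{u}).basicOpen (strA f (a i * a j)) ≤ ⊤) (σ i) ∧
      ∃ r, φ (a i * a j) ^ m * (g i : K) = φ w * (g j : K) + φ f * r := by
    intro i j
    have hab : a i * a j ∈ maximalIdeal A := Ideal.mul_mem_right _ _ (ham i)
    let O := (U₀ f : Scheme.{u}).basicOpen (strA f (a i * a j))
    have hOi : O ≤ V i := by simp only [O, V, map_mul, Scheme.basicOpen_mul]; exact inf_le_left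
    have hOj : O ≤ V j := by simp only [O, V, map_mul, Scheme.basicOpen_mul]; exact inf_le_right
    obtain ⟨v, hv⟩ := GenLocus.exists_coord ((hσ i).res hOi) (rs L (le_top : O ≤ ⊤) (σ j))
    rw [rs_rs] at hv
    obtain ⟨m, w, hw⟩ := hfrac hab v
    refine ⟨m, w, by rw [hv, smul_smul, hw], ?_⟩
    have e1 : rf hOi (c i) = rf hOj (c j) * v := ((hσ i).res hOi O le_rfl).1 (by
      simp only [rs_self, rs_rs, mul_smul, ← hv]
      have h1 := congrArg (rs L hOi) (hc i)
      have h2 := congrArg (rs L hOj) (hc j)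
      rw [rs_rs, hsmul, rs_rs] at h1 h2
      rw [← h1, ← h2])
    have e2 := congrArg (rf hOi) (hz i)
    have e3 := congrArg (rf hOj) (hz j)
    have hz0 : rf (le_top : O ≤ ⊤) (strA f ((a i * a j) ^ m * a j ^ l j * z i - w * a i ^ l i * z j)) = 0 := by
      change rfHom (le_top : O ≤ ⊤) (strA f ((a i * a j) ^ m * a j ^ l j * z i - w * a i ^ l i * z j)) = 0
      have e2' : rfHom hOi (rfHom le_top (strA f (a i ^ l i)) * c i) = rfHom hOi (rfHom le_top (strA f (z i))) := e2
      have e3' : rfHom hOj (rfHom le_top (strA f (a j ^ l j)) * c j) = rfHom hOj (rfHom le_top (strA f (z j))) := e3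
      have hw' : rfHom (le_top : O ≤ ⊤) (strA f ((a i * a j) ^ m)) * v = rfHom (le_top : O ≤ ⊤) (strA f w) := hw
      have e1' : rfHom hOi (c i) = rfHom hOj (c j) * v := e1
      have rr : ∀ {W : (U₀ f : Scheme.{u}).Opens} (h : O ≤ W) (x : A),
          rfHom h (rfHom (le_top : W ≤ ⊤) (strA f x)) = rfHom (le_top : O ≤ ⊤) (strA f x) :=
        fun h x => rf_rf _ _ _
      rw [map_mul, rr, rr] at e2' e3'
      simp only [map_sub, map_mul]
      linear_combination (-(rfHom (le_top : O ≤ ⊤) (strA f ((a i * a j) ^ m)) *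
          rfHom (le_top : O ≤ ⊤) (strA f (a j ^ l j)))) * e2' +
        (rfHom (le_top : O ≤ ⊤) (strA f w) * rfHom (le_top : O ≤ ⊤) (strA f (a i ^ l i))) * e3' +
        (rfHom (le_top : O ≤ ⊤) (strA f ((a i * a j) ^ m)) * rfHom (le_top : O ≤ ⊤) (strA f (a j ^ l j)) *
          rfHom (le_top : O ≤ ⊤) (strA f (a i ^ l i))) * e1' +
        (rfHom (le_top : O ≤ ⊤) (strA f (a j ^ l j)) * rfHom (le_top : O ≤ ⊤) (strA f (a i ^ l i)) *
          rfHom hOj (c j)) * hw'
    obtain ⟨p, x, hp⟩ := (hlocz hab _).mp hz0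
    obtain ⟨u', hu'⟩ := ((((S.isUnit_a (K := K) i).mul (S.isUnit_a j)).pow p).mul
      (((S.isUnit_a (K := K) i).pow (l i)).mul ((S.isUnit_a j).pow (l j))))
    refine ⟨↑u'⁻¹ * φ x, u'.isUnit.mul_left_cancel ?_⟩
    have h4 := congrArg φ hp
    have gi := hgz i
    have gj := hgz j
    simp only [map_mul, map_sub, map_pow, φ] at h4 gi gj ⊢
    rw [mul_add, mul_left_comm (u' : K) (algebraMap A K f), Units.mul_inv_cancel_left, hu']
    linear_combination h4 + ((algebraMap A K (a i) * algebraMap A K (a j)) ^ p *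
      algebraMap A K (a j) ^ l j * (algebraMap A K (a i) * algebraMap A K (a j)) ^ m) * gi -
      ((algebraMap A K (a i) * algebraMap A K (a j)) ^ p * algebraMap A K (a i) ^ l i * algebraMap A K w) * gj
  choose mT wT hwT rT hrT using htrans
  have hc1 : Compat' f a 1 g := fun i j => by
    obtain ⟨u', hu'⟩ := ((S.isUnit_a (K := K) i).mul (S.isUnit_a j)).pow (mT i j)
    refine ⟨↑u'⁻¹ * φ (wT i j), ⟨mT i j, wT i j, ?_⟩, ↑u'⁻¹ * (rT i j * (↑(g j)⁻¹ : K)),
      u'.isUnit.mul_left_cancel ?_⟩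
    · rw [map_mul, ← hu', Units.mul_inv_cancel_left]
    · have h5 := hrT i j
      have e := (g j).mul_inv
      rw [pow_one, mul_add, Units.mul_inv_cancel_left, mul_left_comm (u' : K) (algebraMap A K f),
        Units.mul_inv_cancel_left, hu']
      simp only [Units.val_mul, map_mul, φ] at h5 ⊢
      linear_combination (↑(g j)⁻¹ : K) * h5 + algebraMap A K (wT i j) * e
  obtain ⟨G, hG0, hGc, hGg⟩ := exists_formal S hH2 g hc1
  have hGL : FormalLine f a G := ⟨hGc, hGg⟩
  choose e b N L₀ heS hb hspan htors d hd using exists_chart_seq S hGL hGlob hAdd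
  -- the sections
  let R : (ℕ → K) → Γ(L, ⊤) → Prop := fun x s => ∀ i (l' : ℕ) (z' : A),
    (∃ r, φ (a i) ^ l' * ((g i : K) * x 0) = φ z' + φ f * r) →
      rf (le_top : V i ≤ ⊤) (strA f (a i ^ l')) • rs L (le_top : V i ≤ ⊤) s =
        rf (le_top : V i ≤ ⊤) (strA f z') • rs L (le_top : V i ≤ ⊤) (σ i)
  have hwit : ∀ x ∈ Seq f a G, ∀ i, ∃ (l' : ℕ) (z' : A) (r : K),
      φ (a i) ^ l' * ((g i : K) * x 0) = φ z' + φ f * r := by
    intro x hx i
    obtain ⟨p, ⟨l', z', hz'⟩, r, hr⟩ := hx.1 0 i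
    rw [hG0, zero_add, pow_one] at hr
    exact ⟨l', z', φ (a i) ^ l' * r, by rw [hr, mul_add, hz']; ring⟩
  have hunit : ∀ i (l' : ℕ), IsUnit (rf (le_top : V i ≤ ⊤) (strA f (a i ^ l'))) := fun i l' => by
    change IsUnit (rfHom _ (strA f (a i ^ l')))
    rw [map_pow, map_pow]
    exact ((U₀ f : Scheme.{u}).toRingedSpace.isUnit_res_basicOpen (strA f (a i))).pow l'
  have huniq : ∀ x ∈ Seq f a G, ∀ s s', R x s → R x s' → s = s' := by
    intro x hx s s' hs hs'
    refine TopCat.Sheaf.eq_of_locally_eq' ⟨L.presheaf, L.isSheaf⟩ V ⊤ (fun i => homOfLE le_top)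
      (fun p _ => Opens.mem_iSup.mpr (hcov p)) s s' fun i => ?_
    obtain ⟨l', z', hw'⟩ := hwit x hx i
    exact (hunit i l').smul_left_cancel.mp ((hs i l' z' hw').trans (hs' i l' z' hw').symm)
  have hex : ∀ x ∈ Seq f a G, ∃ s, R x s := by
    intro x hx
    choose l' z' r' hr' using hwit x hx
    choose v hv using fun i => hunit i (l' i)
    obtain ⟨s, hs⟩ : ∃ s : ∀ i, Γ(L, V i), ∀ i, rf (le_top : V i ≤ ⊤) (strA f (a i ^ l' i)) • s i =
        rf (le_top : V i ≤ ⊤) (strA f (z' i)) • rs L (le_top : V i ≤ ⊤) (σ i) :=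
      ⟨fun i => (↑(v i)⁻¹ : Γ((U₀ f : Scheme.{u}), V i)) •
        rf (le_top : V i ≤ ⊤) (strA f (z' i)) • rs L (le_top : V i ≤ ⊤) (σ i),
       fun i => by rw [← hv i, smul_smul, Units.mul_inv, one_smul]⟩
    have hcomp : TopCat.Presheaf.IsCompatible (⟨L.presheaf, L.isSheaf⟩ : TopCat.Sheaf Ab _).1 V s := by
      intro i j
      change rs L (inf_le_left : V i ⊓ V j ≤ V i) (s i) = rs L (inf_le_right : V i ⊓ V j ≤ V j) (s j)
      let O := (U₀ f : Scheme.{u}).basicOpen (strA f (a i * a j))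
      have hO : V i ⊓ V j = O := by simp only [O, V, map_mul, Scheme.basicOpen_mul]
      have hab : a i * a j ∈ maximalIdeal A := Ideal.mul_mem_right _ _ (ham i)
      have hOi : O ≤ V i := hO.ge.trans inf_le_left
      have hOj : O ≤ V j := hO.ge.trans inf_le_right
      suffices h : rs L hOi (s i) = rs L hOj (s j) by
        have := congrArg (rs L hO.le) h
        simpa only [rs_rs] using this
      let P : A → Γ((U₀ f : Scheme.{u}), O) := fun y => rfHom (le_top : O ≤ ⊤) (strA f y)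
      have hP : ∀ y y', P (y * y') = P y * P y' := fun y y' => by simp [P]
      have h1 : P (a i ^ l' i) • rs L hOi (s i) = P (z' i) • rs L le_top (σ i) := by
        have := congrArg (rs L hOi) (hs i)
        rwa [hsmul, hsmul, rf_rf, rf_rf, rs_rs] at this
      have h2 : P (a j ^ l' j) • rs L hOj (s j) = P (z' j) • rs L le_top (σ j) := by
        have := congrArg (rs L hOj) (hs j)
        rwa [hsmul, hsmul, rf_rf, rf_rf, rs_rs] at this
      have h3 : P ((a i * a j) ^ mT i j) • rs L (le_top : O ≤ ⊤) (σ j) = P (wT i j) • rs L le_top (σ i) :=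
        hwT i j
      have hPu : ∀ k, IsUnit (P ((a i * a j) ^ k)) := fun k => by
        simp only [P, map_pow]
        exact ((U₀ f : Scheme.{u}).toRingedSpace.isUnit_res_basicOpen (strA f (a i * a j))).pow k
      have h4 : P ((a i * a j) ^ mT i j * a j ^ l' j * z' i) = P (wT i j * a i ^ l' i * z' j) := by
        rw [← sub_eq_zero]
        simp only [P]
        rw [← map_sub, ← map_sub]
        refine vanish i hab (dvd_mul_right _ _) ⟨φ (a i) ^ l' i * φ (a j) ^ l' j * x 0 * rT i j +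
          φ (wT i j) * φ (a i) ^ l' i * r' j - (φ (a i) * φ (a j)) ^ mT i j * φ (a j) ^ l' j * r' i, ?_⟩
        have e1 := hr' i
        have e2 := hr' j
        have e3 := hrT i j
        simp only [map_sub, map_mul, map_pow, φ] at e1 e2 e3 ⊢
        linear_combination (-((algebraMap A K (a i) * algebraMap A K (a j)) ^ mT i j *
            algebraMap A K (a j) ^ l' j)) * e1 + (algebraMap A K (wT i j) * algebraMap A K (a i) ^ l' i) * e2 +
          (algebraMap A K (a i) ^ l' i * algebraMap A K (a j) ^ l' j * x 0) * e3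
      have hu3 : IsUnit (P ((a i * a j) ^ mT i j) * P (a j ^ l' j) * P (a i ^ l' i)) := by
        refine ((hPu _).mul ?_).mul ?_ <;>
          [skip; skip] <;> simp only [P, map_pow] <;> refine IsUnit.pow _ ?_
        · exact isUnit_of_dvd_unit (map_dvd _ (map_dvd _ (dvd_mul_left _ _))) (by simpa [P] using hPu 1)
        · exact isUnit_of_dvd_unit (map_dvd _ (map_dvd _ (dvd_mul_right _ _))) (by simpa [P] using hPu 1)
      refine hu3.smul_left_cancel.mp ?_
      rw [mul_smul, h1, smul_smul, ← hP, ← hP, h4]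
      simp only [hP]
      rw [show P ((a i * a j) ^ mT i j) * P (a j ^ l' j) * P (a i ^ l' i) =
          P (a i ^ l' i) * P ((a i * a j) ^ mT i j) * P (a j ^ l' j) by ring,
        mul_smul _ _ (rs L hOj (s j)), h2, smul_smul,
        show P (a i ^ l' i) * P ((a i * a j) ^ mT i j) * P (z' j) =
          P (a i ^ l' i) * P (z' j) * P ((a i * a j) ^ mT i j) by ring,
        mul_smul _ _ (rs L (le_top : O ≤ ⊤) (σ j)), h3, smul_smul]
      congr 1
      ring
    obtain ⟨s₀, hs₀, -⟩ := TopCat.Sheaf.existsUnique_gluing' ⟨L.presheaf, L.isSheaf⟩ V ⊤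
      (fun i => homOfLE le_top) (fun p _ => Opens.mem_iSup.mpr (hcov p)) s hcomp
    refine ⟨s₀, fun i l'' z'' ⟨r'', hr''⟩ => ?_⟩
    have hs1 : rs L (le_top : V i ≤ ⊤) s₀ = s i := hs₀ i
    rw [hs1]
    refine (hunit i (l' i)).smul_left_cancel.mp ?_
    rw [smul_comm, hs i, smul_smul, smul_smul]
    congr 1
    change rfHom _ (strA f (a i ^ l'')) * rfHom _ (strA f (z' i)) =
      rfHom _ (strA f (a i ^ l' i)) * rfHom _ (strA f z'')
    rw [← map_mul, ← map_mul, ← map_mul, ← map_mul, ← sub_eq_zero, ← map_sub, ← map_sub]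
    refine vanish i (ham i) dvd_rfl ⟨φ (a i) ^ l' i * r'' - φ (a i) ^ l'' * r' i, ?_⟩
    have e1 := hr' i
    simp only [map_sub, map_mul, map_pow, φ] at e1 hr'' ⊢
    linear_combination (algebraMap A K (a i) ^ l' i) * hr'' - (algebraMap A K (a i) ^ l'') * e1
  choose s hs using hex
  have hRadd : ∀ x ∈ Seq f a G, ∀ y ∈ Seq f a G, ∀ sx sy, R x sx → R y sy → ∀ sxy, R (x + y) sxy →
      sxy = sx + sy := by
    intro x hx y hy sx sy hsx hsy sxy hsxy
    refine TopCat.Sheaf.eq_of_locally_eq' ⟨L.presheaf, L.isSheaf⟩ V ⊤ (fun i => homOfLE le_top)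
      (fun p _ => Opens.mem_iSup.mpr (hcov p)) _ _ fun i => ?_
    change rs L (le_top : V i ≤ ⊤) sxy = rs L le_top (sx + sy)
    rw [show rs L (le_top : V i ≤ ⊤) (sx + sy) = rs L le_top sx + rs L le_top sy from
      map_add (L.presheaf.map (homOfLE (le_top : V i ≤ ⊤)).op).hom sx sy]
    obtain ⟨l1, z1, r1, h1⟩ := hwit x hx i
    obtain ⟨l2, z2, r2, h2⟩ := hwit y hy i
    refine (hunit i (l1 + l2)).smul_left_cancel.mp ?_
    rw [smul_add, hsxy i (l1 + l2) (a i ^ l2 * z1 + a i ^ l1 * z2)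
        ⟨φ (a i) ^ l2 * r1 + φ (a i) ^ l1 * r2, by
          simp only [Pi.add_apply, map_add, map_mul, map_pow, φ] at h1 h2 ⊢
          linear_combination (algebraMap A K (a i) ^ l2) * h1 + (algebraMap A K (a i) ^ l1) * h2⟩,
      hsx i (l1 + l2) (a i ^ l2 * z1) ⟨φ (a i) ^ l2 * r1, by
          simp only [map_mul, map_pow, φ] at h1 ⊢
          linear_combination (algebraMap A K (a i) ^ l2) * h1⟩,
      hsy i (l1 + l2) (a i ^ l1 * z2) ⟨φ (a i) ^ l1 * r2, by
          simp only [map_mul, map_pow, φ] at h2 ⊢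
          linear_combination (algebraMap A K (a i) ^ l1) * h2⟩, ← add_smul]
    congr 1
    change rfHom _ (strA f _) = rfHom _ (strA f _) + rfHom _ (strA f _)
    rw [map_add, map_add]
  have hRsmul : ∀ (c : A), ∀ x ∈ Seq f a G, ∀ sx, R x sx → ∀ scx, R (c • x) scx →
      scx = strA f c • sx := by
    intro c x hx sx hsx scx hscx
    refine TopCat.Sheaf.eq_of_locally_eq' ⟨L.presheaf, L.isSheaf⟩ V ⊤ (fun i => homOfLE le_top)
      (fun p _ => Opens.mem_iSup.mpr (hcov p)) _ _ fun i => ?_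
    change rs L (le_top : V i ≤ ⊤) scx = rs L le_top (strA f c • sx)
    rw [hsmul]
    obtain ⟨l1, z1, r1, h1⟩ := hwit x hx i
    refine (hunit i l1).smul_left_cancel.mp ?_
    rw [smul_comm (rf _ (strA f (a i ^ l1))) (rf _ (strA f c)), hsx i l1 z1 ⟨r1, h1⟩,
      hscx i l1 (c * z1) ⟨φ c * r1, by
        simp only [Pi.smul_apply, Algebra.smul_def, map_mul, φ] at h1 ⊢
        linear_combination (algebraMap A K c) * h1⟩, smul_smul]
    congr 1
    change rfHom _ (strA f _) = rfHom _ (strA f _) * rfHom _ (strA f _)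
    rw [map_mul, map_mul]
  let Ψ : Seq f a G →+ Γ(L, ⊤) :=
    { toFun := fun x => s x.1 x.2
      map_zero' := huniq 0 (zero_mem _) _ _ (hs 0 (zero_mem _)) fun i l' z' ⟨r, hr⟩ => by
        have hv : rf (le_top : V i ≤ ⊤) (strA f z') = 0 := vanish i (ham i) dvd_rfl ⟨-r, by
          simp only [Pi.zero_apply, mul_zero] at hr
          linear_combination -hr⟩
        rw [hv, zero_smul, show rs L (le_top : V i ≤ ⊤) (0 : Γ(L, ⊤)) = 0 from
          map_zero (L.presheaf.map (homOfLE le_top).op).hom, smul_zero]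
      map_add' := fun x y => hRadd x.1 x.2 y.1 y.2 _ _ (hs _ x.2) (hs _ y.2) _ (hs _ (x + y).2) }
  have hΨnul : ∀ x : Seq f a G, x.1 ∈ Nul f K → Ψ x = 0 := fun x hx =>
    huniq x.1 x.2 _ _ (hs _ x.2) fun i l' z' ⟨r, hr⟩ => by
      obtain ⟨d₀, hd₀⟩ := hx 0
      have hv : rf (le_top : V i ≤ ⊤) (strA f z') = 0 := vanish i (ham i) dvd_rfl
        ⟨φ (a i) ^ l' * ((g i : K) * d₀) - r, by
          rw [hd₀, zero_add, pow_one] at hr
          linear_combination -hr⟩
      rw [hv, zero_smul, show rs L (le_top : V i ≤ ⊤) (0 : Γ(L, ⊤)) = 0 from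
        map_zero (L.presheaf.map (homOfLE le_top).op).hom, smul_zero]
  let Z : Submodule A (Seq f a G) := (Nul f K).comap (Seq f a G).subtype
  let ΨQ : (Seq f a G) ⧸ Z →+ Γ(L, ⊤) :=
    QuotientAddGroup.lift Z.toAddSubgroup Ψ fun x hx => hΨnul x hx
  refine ⟨{
    M := (Seq f a G) ⧸ Z
    n := t.card
    b := fun k => b k * a k
    e := fun k => Z.mkQ ⟨e k, heS k⟩
    mem := fun k => Ideal.mul_mem_left _ _ (ham k)
    span := fun k y => ?_
    tors := fun k c' h => ?_
    cov := fun p => ?_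
    Φ := ΨQ
    Φ_smul := fun r y => ?_
    gen := fun k => ?_ }⟩
  · obtain ⟨⟨x, hx⟩, rfl⟩ := Z.mkQ_surjective y
    obtain ⟨c', hc'⟩ := hspan k x hx
    refine ⟨a k * c', ?_⟩
    rw [← map_smul, ← map_smul, Submodule.mkQ_apply, Submodule.mkQ_apply, Submodule.Quotient.eq]
    have h2 := Submodule.smul_mem _ (a k) hc'
    simpa [Z, smul_sub, smul_smul, mul_comm (b k)] using h2
  · rw [← map_smul, Submodule.mkQ_apply, Submodule.Quotient.mk_eq_zero] at h
    rw [mul_right_comm, htors k c' h, zero_mul]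
  · obtain ⟨i, hi⟩ := hcov p
    refine ⟨i, (hmem _ _).mpr fun h => (hmem _ _).mp hi ?_⟩
    obtain ⟨w, hw⟩ := hb i
    have h2 : π (b i * a i) = π (a i) ^ (N i + 1) := by
      rw [pow_succ, ← map_pow, map_mul, show b i = a i ^ N i + f * w by linear_combination hw, map_add,
        map_mul, hπz.mpr dvd_rfl, zero_mul, add_zero]
    rw [h2] at h
    exact ((U₀ f).ι.base p : PrimeSpectrum B).2.mem_of_pow_mem _ h
  · obtain ⟨⟨x, hx⟩, rfl⟩ := Z.mkQ_surjective y
    exact hRsmul r x hx _ (hs _ hx) _ (hs _ (Submodule.smul_mem _ r hx))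
  · have hle : (U₀ f : Scheme.{u}).basicOpen (strA f (b k * a k)) ≤ V k := by
      simp only [V, map_mul, Scheme.basicOpen_mul]; exact inf_le_right
    have h1 : rs L (le_top : V k ≤ ⊤) (ΨQ (Z.mkQ ⟨e k, heS k⟩)) =
        rf (le_top : V k ≤ ⊤) (strA f (a k ^ L₀ k)) • rs L le_top (σ k) := by
      have h2 := hs _ (heS k) k 0 (a k ^ L₀ k) ⟨(g k : K) * d k, by
        have := (g k).mul_inv
        rw [hd k, hG0, pow_zero, one_mul, map_pow]
        simp only [φ]
        linear_combination (algebraMap A K (a k) ^ L₀ k) * this⟩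
      rw [pow_zero, map_one] at h2
      rw [← h2, show rf (le_top : V k ≤ ⊤) (1 : Γ((U₀ f : Scheme.{u}), ⊤)) = 1 from map_one (rfHom _), one_smul]
      rfl
    have h3 := congrArg (rs L hle) h1
    rw [rs_rs, hsmul, rs_rs] at h3
    rw [h3]
    refine IsGen_smul_isUnit (by simpa only [rs_rs] using (hσ k).res hle) ((hunit k _).map (rfHom hle))

end Groth.Agent.H80.Divisor.Weak
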