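import Groth.Agent.H80.Divisor.Weak.Module

/-!
# The sheaf of a model
-/

set_option autoImplicit false
set_option backward.isDefEq.respectTransparency false

universe u

open CategoryTheory CategoryTheory.Limits AlgebraicGeometry IsLocalRing TopologicalSpace Opposite
open Groth.Agent.Lib Groth.Agent.Lib.TensorMod Groth.Agent.Lib.TensorMod.Dual
open Groth.Agent.Lib.TensorMod.Gen Groth.Agent.Lib.TensorMod.Pullback Groth.Agent.Lib.Ample
open Groth.Agent.Lib.Ample.GenLocus

namespace Groth.Agent.H80.Divisor.Weak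

open Groth.Agent.H80.Clopen

section tilde

variable {R : CommRingCat.{u}} (M : ModuleCat.{u} R)

/-- A section of the sheaf of a module. -/
noncomputable abbrev sec (V : (Spec R).Opens) (m : M) : Γ(tilde M, V) :=
  (tilde.toOpen (R := R) M V).hom m

theorem rs_sec {V W : (Spec R).Opens} (h : V ≤ W) (m : M) :
    rs (tilde M) h (sec M W m) = sec M V m := rfl

theorem smul_sec {V : (Spec R).Opens} (r : R) (m : M) :
    (rf (le_top : V ≤ ⊤) ((Scheme.ΓSpecIso R).inv r)) • sec M V m = sec M V (r • m) :=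
  ((tilde.toOpen (R := R) M V).hom.map_smul r m).symm

/-- A vector which is a basis after inverting `b` gives a generator over `D(b)`. -/
theorem isGen_sec (b : R) (e : M) (hspan : ∀ x : M, ∃ c : R, b • x = c • e)
    (htors : ∀ c : R, c • e = 0 → b * c = 0) :
    IsGen (tilde M) (PrimeSpectrum.basicOpen b) (sec M _ e) := by
  let X := Spec R
  obtain ⟨s, hs⟩ := GenLocus.exists_hom_of_sec (L := tilde M) (sec M ⊤ e)
  have hsV : ∀ V : X.Opens, s.app V (one X V) = sec M V e := fun V => by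
    rw [← rs_app_one s (le_top : V ≤ ⊤)]
    exact (congrArg (rs (tilde M) _) hs).trans (rs_sec M _ e)
  have h := (GenLocus.isIso_restrict_iff s (PrimeSpectrum.basicOpen b : X.Opens)).1 ?_
  · simpa only [GenLocus.sv, hsV] using h
  refine Groth.Agent.H18.ZClos.isIso_of_basis _ fun x V hxV => ?_
  let Db : X.Opens := PrimeSpectrum.basicOpen b
  obtain ⟨_, ⟨_, ⟨g, rfl⟩, rfl⟩, hxg, hgV⟩ := PrimeSpectrum.isBasis_basic_opens.exists_subset_of_mem_open
    (show Db.ι.base x ∈ ((Db.ι ''ᵁ V).1 : Set (PrimeSpectrum R)) from ⟨x, hxV, rfl⟩) (Db.ι ''ᵁ V).2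
  let G : X.Opens := PrimeSpectrum.basicOpen g
  have hGb : G ≤ Db := fun w hw => Db.ι_image_le V (hgV hw)
  refine ⟨Db.ι ⁻¹ᵁ G, hxg, fun w hw => ?_, ?_⟩
  · obtain ⟨w', hw', h'⟩ := hgV hw
    exact Db.ι.isOpenEmbedding.injective h' ▸ hw'
  have himg : Db.ι ''ᵁ (Db.ι ⁻¹ᵁ G) = G := by
    rw [Scheme.Hom.image_preimage_eq_opensRange_inf, Scheme.Opens.opensRange_ι]
    exact inf_eq_right.2 hGb
  suffices key : ∀ W : X.Opens, W = G → Function.Bijective (s.app W) from key _ himg
  rintro _ rfl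
  let : Algebra R Γ(X, G) := ((rfHom (le_top : G ≤ ⊤)).comp (Scheme.ΓSpecIso R).inv.hom).toAlgebra
  have hloc : IsLocalization.Away g Γ(X, G) := isLocalization_spec R g
  have : IsLocalizedModule.Away g (tilde.toOpen (R := R) M G).hom :=
    inferInstanceAs (IsLocalizedModule.Away g (tilde.toOpen (R := R) M (PrimeSpectrum.basicOpen g)).hom)
  obtain ⟨n, c, hc⟩ : ∃ (n : ℕ) (c : R), g ^ n = c * b := by
    have hle : PrimeSpectrum.basicOpen g ≤ PrimeSpectrum.basicOpen b := hGb
    obtain ⟨n, hn⟩ := PrimeSpectrum.basicOpen_le_basicOpen_iff g b |>.mp hle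
    obtain ⟨c, hc⟩ := Ideal.mem_span_singleton'.mp hn
    exact ⟨n, c, hc.symm⟩
  have hsa : ∀ a : Γ(X, G), s.app G a = a • sec M G e := fun a => by
    rw [← hsV G]; exact app_eq_smul s a
  have hu : ∀ l : ℕ, IsUnit (algebraMap R Γ(X, G) (g ^ l)) := fun l =>
    IsLocalization.map_units Γ(X, G) (⟨g ^ l, l, rfl⟩ : Submonoid.powers g)
  refine (iff_of_eq (congrArg Function.Bijective (funext fun a : Γ(X, G) => hsa a))).mpr ?_
  refine ⟨fun a₁ a₂ h12 => sub_eq_zero.mp ?_, fun y => ?_⟩
  · have ha : (a₁ - a₂) • sec M G e = 0 := by rw [sub_smul, sub_eq_zero]; exact h12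
    generalize a₁ - a₂ = a at ha ⊢
    obtain ⟨⟨r, _, l, rfl⟩, hr⟩ := IsLocalization.surj (Submonoid.powers g) a
    have h1 : sec M G (r • e) = 0 := by
      rw [← smul_sec]
      change algebraMap R Γ(X, G) r • sec M G e = 0
      rw [← hr, mul_comm, mul_smul, ha, smul_zero]
    obtain ⟨⟨_, m, rfl⟩, hm⟩ := (IsLocalizedModule.eq_zero_iff (Submonoid.powers g)
      (tilde.toOpen (R := R) M G).hom).1 h1
    have h2 : b * (g ^ m * r) = 0 := htors _ (by rw [mul_smul]; exact hm)
    have h3 : algebraMap R Γ(X, G) r = 0 := by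
      have h4 := congrArg (algebraMap R Γ(X, G)) (show g ^ (n + m) * r = 0 by
        rw [pow_add, hc]; linear_combination c * h2)
      rw [map_mul, map_zero] at h4
      exact (hu _).mul_right_eq_zero.mp h4
    rw [h3] at hr
    exact (hu l).mul_left_eq_zero.mp hr
  · obtain ⟨⟨x', _, l, rfl⟩, hx'⟩ := IsLocalizedModule.surj (Submonoid.powers g)
      (tilde.toOpen (R := R) M G).hom y
    obtain ⟨c', hc'⟩ := hspan x'
    obtain ⟨u', hu'⟩ := hu (l + n)
    refine ⟨↑u'⁻¹ * algebraMap R Γ(X, G) (c * c'), ?_⟩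
    show (_ * _) • sec M G e = y
    rw [mul_smul]
    have h1 : algebraMap R Γ(X, G) (c * c') • sec M G e = (u' : Γ(X, G)) • y := by
      rw [hu', pow_add, mul_comm (g ^ l) (g ^ n), map_mul (algebraMap R Γ(X, G)) (g ^ n) (g ^ l), mul_smul]
      refine (smul_sec M (c * c') e).trans ?_
      rw [mul_smul, ← hc', smul_smul, ← hc]
      refine ((smul_sec M (g ^ n) x').symm).trans ?_
      refine congrArg (algebraMap R Γ(X, G) (g ^ n) • ·) ?_
      exact hx'.symm
    rw [h1, smul_smul, Units.inv_mul, one_smul]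

end tilde

variable {A : Type u} [CommRing A] [IsNoetherianRing A] [IsLocalRing A] {f : A}
  {L : (U₀ f : Scheme.{u}).Modules} (D : Model A f L)

/-- The module of the model. -/
abbrev Model.modR : ModuleCat.{u} (CommRingCat.of A : Type u) := ModuleCat.of A D.M

/-- The sheaf of the model. -/
noncomputable abbrev Model.sheaf : (Spec (CommRingCat.of A)).Modules := tilde (R := CommRingCat.of A) D.modR

/-- The opens of the model. -/
noncomputable abbrev Model.chart (k : Fin D.n) : (Spec (CommRingCat.of A)).Opens :=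
  PrimeSpectrum.basicOpen (D.b k)

variable (f) in
/-- The inclusion of the punctured hypersurface. -/
noncomputable abbrev jU : (U₀ f : Scheme.{u}) ⟶ Spec (CommRingCat.of A) :=
  (U₀ f).ι ≫ Formal2.specQuotMap A f

theorem jU_appTop (r : A) :
    (jU f).appTop ((Scheme.ΓSpecIso (CommRingCat.of A)).inv r) = strA f r := by
  rw [jU, Scheme.Hom.comp_appTop]
  change (U₀ f).ι.appTop (((Scheme.ΓSpecIso (CommRingCat.of A)).inv ≫
    (Formal2.specQuotMap A f).appTop) r) = _
  rw [show (Scheme.ΓSpecIso (CommRingCat.of A)).inv ≫ (Formal2.specQuotMap A f).appTop =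
    CommRingCat.ofHom (Ideal.Quotient.mk (Ideal.span {f})) ≫ (Scheme.ΓSpecIso _).inv from
    (Scheme.ΓSpecIso_inv_naturality _).symm]
  rfl

theorem jU_preimage (r : A) :
    jU f ⁻¹ᵁ (PrimeSpectrum.basicOpen r : (Spec (CommRingCat.of A)).Opens) =
      (U₀ f : Scheme.{u}).basicOpen (strA f r) := by
  rw [show (PrimeSpectrum.basicOpen r : (Spec (CommRingCat.of A)).Opens) =
    (Spec (CommRingCat.of A)).basicOpen ((Scheme.ΓSpecIso (CommRingCat.of A)).inv r) from
    (basicOpen_eq_of_affine (R := CommRingCat.of A) r).symm, Scheme.preimage_basicOpen_top, jU_appTop]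

theorem Model.chart_le (k : Fin D.n) : D.chart k ≤ FEt.puncturedSpec A := fun _ hw heq =>
  hw (congrArg PrimeSpectrum.asIdeal heq ▸ D.mem k)

theorem Model.mem_iSup (p : (U₀ f : Scheme.{u})) : (jU f).base p ∈ ⨆ k, D.chart k := by
  obtain ⟨k, hk⟩ := D.cov p
  rw [← jU_preimage] at hk
  exact Opens.mem_iSup.mpr ⟨k, hk⟩

/-- The pullback of the sheaf of the model is the line bundle. -/
theorem Model.exists_iso :
    ∃ θ : (pb (jU f)).obj D.sheaf ≅ L, ∀ (V : (Spec (CommRingCat.of A)).Opens) (x : D.M),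
      θ.hom.app (jU f ⁻¹ᵁ V) (unitSec (jU f) D.sheaf (sec (R := CommRingCat.of A) D.modR V x)) =
        rs L le_top (D.Φ x) := by
  let P := (Scheme.Modules.pushforward (jU f)).obj L
  let N : ModuleCat.{u} (CommRingCat.of A : Type u) := (moduleSpecΓFunctor (R := CommRingCat.of A)).obj P
  let φ₀ : D.modR →ₗ[(CommRingCat.of A : Type u)] N :=
    { toFun := fun (x : D.M) => (D.Φ x : Γ(L, ⊤))
      map_add' := D.Φ.map_add
      map_smul' := fun (r : A) (x : D.M) => by
        rw [RingHom.id_apply]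
        show D.Φ (r • x) = _
        rw [D.Φ_smul, ← jU_appTop]
        refine Eq.trans ?_ (Scheme.Modules.smul_Spec_def (M := P) (U := ⊤) r (D.Φ x)).symm
        rw [show (Spec (CommRingCat.of A)).presheaf.map (⊤ : (Spec (CommRingCat.of A)).Opens).leTop.op =
          𝟙 _ from (Spec (CommRingCat.of A)).presheaf.map_id _]
        rfl }
  let φ : D.modR ⟶ N := ConcreteCategory.ofHom (C := ModuleCat.{u} (CommRingCat.of A : Type u)) φ₀
  let ψ : D.sheaf ⟶ P := (tilde.adjunction.homEquiv _ _).symm φ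
  have hψ : ∀ x : D.M, ψ.app ⊤ (sec (R := CommRingCat.of A) D.modR ⊤ x) = (D.Φ x : Γ(L, ⊤)) := fun x => by
    have h := (tilde.adjunction.homEquiv D.modR P).apply_symm_apply φ
    rw [Adjunction.homEquiv_unit] at h
    exact LinearMap.congr_fun (congrArg ModuleCat.Hom.hom h) x
  let θ := ((pbAdj (jU f)).homEquiv _ _).symm ψ
  have hθ : ∀ (V : (Spec (CommRingCat.of A)).Opens) (x : D.M),
      θ.app (jU f ⁻¹ᵁ V) (unitSec (jU f) D.sheaf (sec (R := CommRingCat.of A) D.modR V x)) =
        rs L le_top (D.Φ x) := fun V x => by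
    have h := (pbAdj (jU f)).homEquiv_unit (X := D.sheaf) (Y := L) (f := θ)
    rw [Equiv.apply_symm_apply] at h
    have h2 := congrArg (fun t => Scheme.Modules.Hom.app t V (sec (R := CommRingCat.of A) D.modR V x)) h
    refine h2.symm.trans ?_
    change ψ.app V (sec (R := CommRingCat.of A) D.modR V x) = _
    rw [← rs_sec (R := CommRingCat.of A) D.modR (le_top : V ≤ ⊤) x, ← HomGlue.rs_app, hψ]
    rfl
  have : IsIso θ := H52.PushInv.isIso_of_gens θ fun p => by
    obtain ⟨k, hk⟩ := D.cov p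
    refine ⟨jU f ⁻¹ᵁ D.chart k, unitSec (jU f) D.sheaf (sec (R := CommRingCat.of A) D.modR _ (D.e k)),
      by rw [jU_preimage]; exact hk,
      isGen_unitSec (jU f) (isGen_sec (R := CommRingCat.of A) D.modR (D.b k) (D.e k) (D.span k) (D.tors k)), ?_⟩
    rw [hθ]
    have h := (D.gen k).res (jU_preimage (D.b k)).le
    rwa [rs_rs] at h
  exact ⟨asIso θ, hθ⟩

/-- The model gives an invertible module near the punctured hypersurface. -/
theorem Model.isInvertible_restrict (U' : (Spec (CommRingCat.of A)).Opens)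
    (hU' : U' ≤ ⨆ k, D.chart k) : PicF.IsInvertible ((pb U'.ι).obj D.sheaf) :=
  isInvertible_iff.2 fun p => by
    obtain ⟨k, hk⟩ := Opens.mem_iSup.mp (hU' p.2)
    exact ⟨U'.ι ⁻¹ᵁ D.chart k, _, hk,
      isGen_unitSec U'.ι (isGen_sec (R := CommRingCat.of A) D.modR (D.b k) (D.e k) (D.span k) (D.tors k))⟩

end Groth.Agent.H80.Divisor.Weak
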