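import Groth.Agent.H80.Divisor.Weak.CechBridge
import Groth.Agent.H80.Divisor.FormalIdeal
import Mathlib.RingTheory.AdicCompletion.Basic
import Mathlib.LinearAlgebra.Matrix.Charpoly.LinearMap

/-!
# The module of formal sections
-/

set_option autoImplicit false

universe u

namespace Groth.Agent.H80.Divisor.Weak

open Groth.Agent.H80.Clopen

open Groth.Agent.H80.Divisor

/-- A Nakayama lemma with an explicit multiplier. -/
theorem exists_mul_zero {A : Type u} [CommRing A] {M : Type u} [AddCommGroup M] [Module A M]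
    [Module.Finite A M] (a f : A)
    (h : ∀ x : M, ∃ l, a ^ l • x ∈ Ideal.span {f} • (⊤ : Submodule A M)) :
    ∃ (b : A) (N : ℕ), f ∣ b - a ^ N ∧ ∀ x : M, b • x = 0 := by
  classical
  obtain ⟨s, hs⟩ := Module.Finite.fg_top (R := A) (M := M)
  choose l hl using h
  let L := s.sup l
  have hall : ∀ x : M, a ^ L • x ∈ Ideal.span {f} • (⊤ : Submodule A M) := by
    intro x
    have hx : x ∈ Submodule.span A (s : Set M) := hs ▸ trivial
    induction hx using Submodule.span_induction with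
    | mem g hg =>
      have hle : l g ≤ L := Finset.le_sup (Finset.mem_coe.mp hg)
      rw [← Nat.sub_add_cancel hle, pow_add, mul_smul]
      exact Submodule.smul_mem _ _ (hl g)
    | zero => simp
    | add x y _ _ hx hy => rw [smul_add]; exact add_mem hx hy
    | smul c x _ hx => rw [smul_comm]; exact Submodule.smul_mem _ _ hx
  obtain ⟨p, hmonic, -, hcoeff, haeval⟩ :=
    LinearMap.exists_monic_and_coeff_mem_pow_and_aeval_eq_zero_of_range_le_smul A
      (algebraMap A (Module.End A M) (a ^ L)) (Ideal.span {f}) (by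
        rintro _ ⟨x, rfl⟩
        exact hall x)
  refine ⟨p.eval (a ^ L), L * p.natDegree, ?_, fun x => ?_⟩
  · rw [Polynomial.eval_eq_sum_range, Finset.sum_range_succ, hmonic.coeff_natDegree, one_mul,
      ← pow_mul, add_sub_cancel_right]
    refine Finset.dvd_sum fun i hi => Dvd.dvd.mul_right ?_ _
    have h2 := Ideal.pow_le_self (I := Ideal.span {f})
      (Nat.sub_ne_zero_of_lt (Finset.mem_range.mp hi)) (hcoeff i)
    exact Ideal.mem_span_singleton.mp h2
  · change (algebraMap A (Module.End A M) (p.eval (a ^ L))) x = 0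
    rw [← Polynomial.aeval_algebraMap_apply_eq_algebraMap_eval, haeval]
    rfl

variable {A : Type u} [CommRing A] {f : A} {ι : Type} {a : ι → A} {K : Type u} [CommRing K]
  [Algebra A K] {G : ℕ → ι → Kˣ} {T : Submonoid A} [IsLocalization T K] (S : Setup f a T)

include S

/-- Finiteness of cocycles modulo coboundaries. -/
theorem cocycle_fg' [IsNoetherianRing A] [Finite ι] (hG : FormalLine f a G)
    (hg : GlobFG f a K) (h1 : AddFG f a K) (o : ι) :
    ∃ N : Submodule A (ι → K), N.FG ∧ Cocycle f a G ≤ N ⊔ Cobound f a G := by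
  have := Fintype.ofFinite ι
  let φ := algebraMap A K
  choose u hu e he using hG.compat 0
  obtain ⟨L, z, hz⟩ := exists_uniform (fun t : ι × ι => a t.1 * a t.2) (fun t => u t.1 t.2)
    fun t => hu t.1 t.2
  let w : ι → Kˣ := fun t => ((S.isUnit_a (K := K) t).pow L).unit * G 0 t
  have hw : ∀ i t, OnM f 1 (a i) ((↑(w t * (G 0 i)⁻¹) : K)) := fun i t => by
    refine ⟨algebraMap A K (a t) ^ L * u t i, ⟨L, z (t, i), ?_⟩, algebraMap A K (a t) ^ L * e t i, ?_⟩
    · rw [← hz (t, i), map_mul]; ring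
    · have := he t i
      simp only [Units.val_mul] at this
      simp only [w, Units.val_mul, IsUnit.unit_spec, zero_add] at this ⊢
      linear_combination algebraMap A K (a t) ^ L * this
  let cI : Submodule A K := LinearMap.range (LinearMap.mulLeft A (φ f))
  let P' : Submodule A ((ι → K) × (ι → K)) :=
    { carrier := {v | v.1 ∈ Cocycle f a G ∧ ∀ t i, OnM f 1 (a i) (v.1 i * (↑(w t * (G 0 i)⁻¹) : K) - v.2 t)}
      add_mem' := fun {v v'} h h' => ⟨add_mem h.1 h'.1, fun t i => by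
        convert (h.2 t i).add (h'.2 t i) using 1
        simp only [Prod.fst_add, Prod.snd_add, Pi.add_apply]; ring⟩
      zero_mem' := ⟨zero_mem _, fun t i => by simp [OnM.zero]⟩
      smul_mem' := fun c v h => ⟨Submodule.smul_mem _ c h.1, fun t i => by
        convert (h.2 t i).smul c using 1
        simp only [Prod.smul_fst, Prod.smul_snd, Pi.smul_apply, smul_sub, smul_mul_assoc]⟩ }
  obtain ⟨Ng, hNg, hglob'⟩ := hg
  obtain ⟨Na, hNa, hadd⟩ := h1
  have : Module.Finite A Na := Module.Finite.iff_fg.mpr hNa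
  let R : Submodule A ((ι → K) × (ι → Na) × (ι → K)) :=
    { carrier := {v | v.1 ∈ Cocycle f a G ∧ ∀ t i, OnM f 1 (a i)
        (v.1 i * (↑(w t * (G 0 i)⁻¹) : K) - ((v.2.1 t : ι → K) i + v.2.2 t))}
      add_mem' := fun {v v'} h h' => ⟨add_mem h.1 h'.1, fun t i => by
        convert (h.2 t i).add (h'.2 t i) using 1
        simp only [Prod.fst_add, Prod.snd_add, Pi.add_apply, Submodule.coe_add]; ring⟩
      zero_mem' := ⟨zero_mem _, fun t i => by simp [OnM.zero]⟩
      smul_mem' := fun c v h => ⟨Submodule.smul_mem _ c h.1, fun t i => by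
        convert (h.2 t i).smul c using 1
        simp only [Prod.smul_fst, Prod.smul_snd, Pi.smul_apply, SetLike.val_smul, smul_sub,
          smul_mul_assoc, smul_add]⟩ }
  let Λ : R →ₗ[A] (ι → Na) := LinearMap.fst A (ι → Na) (ι → K) ∘ₗ LinearMap.snd A (ι → K) _ ∘ₗ R.subtype
  obtain ⟨N₁', hN₁', hcompl⟩ := exists_fg_complement (P := R) (H := ι → Na) Λ
  let N₁ : Submodule A (ι → K) := N₁'.map (LinearMap.fst A (ι → K) _ ∘ₗ R.subtype)
  have hsurj : ∀ r ∈ Cocycle f a G, ∃ x ∈ N₁, ∃ Y, (r - x, Y) ∈ P' := by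
    intro r hr
    have hc : ∀ t, ∃ (X : Na) (Y : K), ∀ i,
        OnM f 1 (a i) (r i * (↑(w t * (G 0 i)⁻¹) : K) - ((X : ι → K) i + Y)) := by
      intro t
      obtain ⟨X, hX, Y, hY⟩ := hadd (fun i => r i * (↑(w t * (G 0 i)⁻¹) : K)) fun i j => by
        have := ((hr i j).mul ((hw i t).dvd (dvd_mul_right _ (a j)))).neg
        convert this using 1
        simp only [Units.val_mul]
        have h3 := (G 0 i).mul_inv
        linear_combination -(↑(w t) * ↑(G 0 j)⁻¹ * r j) * h3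
      exact ⟨⟨X, hX⟩, Y, fun i => by simpa [sub_sub] using hY i⟩
    choose X Y hY using hc
    let v : R := ⟨(r, X, Y), hr, hY⟩
    obtain ⟨x, hx, hx0⟩ := hcompl v
    refine ⟨(x : (ι → K) × (ι → Na) × (ι → K)).1, Submodule.mem_map_of_mem hx,
      ((v - x : R) : (ι → K) × (ι → Na) × (ι → K)).2.2, (v - x : R).2.1, fun t i => ?_⟩
    have h2 := (v - x : R).2.2 t i
    have h4 : ((v - x : R) : (ι → K) × (ι → Na) × (ι → K)).2.1 t = 0 := congrFun hx0 t
    rw [h4, ZeroMemClass.coe_zero, Pi.zero_apply, zero_add] at h2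
    exact h2
  let ws : Kˣ := ((S.isUnit_a (K := K) o).pow L).unit * (G 0 o)⁻¹
  let Z : ((ι → K) × (ι → K)) →ₗ[A] (ι → K ⧸ cI) := LinearMap.pi fun t => cI.mkQ ∘ₗ
      (LinearMap.mulLeft A ((↑ws : K)) ∘ₗ
        ((LinearMap.mulLeft A (↑(w o) : K)) ∘ₗ (LinearMap.proj t) ∘ₗ LinearMap.snd A _ _ -
          (LinearMap.mulLeft A (↑(w t) : K)) ∘ₗ (LinearMap.proj o) ∘ₗ LinearMap.snd A _ _))
  have hZapp : ∀ v t, Z v t = cI.mkQ ((↑ws : K) * ((↑(w o) : K) * v.2 t - (↑(w t) : K) * v.2 o)) :=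
    fun v t => rfl
  let Γ : Submodule A (K ⧸ cI) := Ng.map cI.mkQ
  have hrange : P'.map Z ≤ Submodule.pi Set.univ fun _ => Γ := by
    rintro _ ⟨⟨r, Y⟩, ⟨hr, hY⟩, rfl⟩ t -
    have hglob : ∀ i, OnM f 1 (a i) ((↑ws : K) * ((↑(w o) : K) * Y t - (↑(w t) : K) * Y o)) := by
      intro i
      have hinv : OnM f 1 (a i) ((↑(ws * G 0 i) : K)) := by
        refine ⟨algebraMap A K (a o) ^ L * u i o, ⟨L, z (i, o), ?_⟩, algebraMap A K (a o) ^ L * e i o, ?_⟩
        · rw [← hz (i, o), map_mul]; ring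
        · have := he i o
          simp only [Units.val_mul] at this
          simp only [ws, Units.val_mul, IsUnit.unit_spec, zero_add] at this ⊢
          linear_combination algebraMap A K (a o) ^ L * this
      have h2 := ((hY t i).mul ((hw i o))).sub ((hY o i).mul (hw i t))
      have h3 := (hinv.mul h2).neg
      convert h3 using 1
      simp only [Units.val_mul]
      have e3 := (G 0 i).mul_inv
      linear_combination -((↑ws : K) * (↑(w o) * Y t - ↑(w t) * Y o)) * e3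
    obtain ⟨x, hxN, p, hp⟩ := hglob' _ hglob
    refine ⟨x, hxN, ?_⟩
    rw [hZapp]
    rw [Submodule.mkQ_apply, Submodule.mkQ_apply, eq_comm, Submodule.Quotient.eq]
    exact ⟨p, by
      change φ f * p = _
      rw [hp]; ring⟩
  have hfgZ : (P'.map Z).FG := by
    have : Module.Finite A Γ := Module.Finite.iff_fg.mpr (hNg.map _)
    have : IsNoetherian A Γ := isNoetherian_of_isNoetherianRing_of_finite A Γ
    let emb : P'.map Z →ₗ[A] (ι → Γ) := LinearMap.pi fun t =>
      ((LinearMap.proj t).comp (P'.map Z).subtype).codRestrict Γ fun v => hrange v.2 t trivial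
    have hemb : Function.Injective emb := fun v v' h => Subtype.ext (funext fun t =>
      congrArg Subtype.val (congrFun h t))
    exact Module.Finite.iff_fg.mp (Module.Finite.of_injective emb hemb)
  obtain ⟨s, hs⟩ := hfgZ
  have hpre : ∀ v ∈ (s : Set (ι → K ⧸ cI)), ∃ p ∈ P', Z p = v := fun v hv =>
    Submodule.mem_map.mp (hs ▸ Submodule.subset_span hv)
  choose! pre hpre₁ hpre₂ using hpre
  refine ⟨Submodule.span A ((fun v => (pre v).1) '' s) ⊔ N₁,
    (Submodule.fg_span (s.finite_toSet.image _)).sup (hN₁'.map _), fun r₀ hr₀ => ?_⟩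
  obtain ⟨x₁, hx₁, Y, hY⟩ := hsurj r₀ hr₀
  set r := r₀ - x₁ with hr_def
  have hZ : Z (r, Y) ∈ Submodule.span A (s : Set (ι → K ⧸ cI)) := hs ▸ Submodule.mem_map_of_mem hY
  have him : Z '' (pre '' s) = s := by
    ext v
    constructor
    · rintro ⟨_, ⟨v', hv', rfl⟩, rfl⟩; rwa [hpre₂ v' hv']
    · exact fun hv => ⟨pre v, ⟨v, hv, rfl⟩, hpre₂ v hv⟩
  rw [← him, ← Submodule.map_span] at hZ
  obtain ⟨p, hp, hpZ⟩ := hZ
  have hpP : p ∈ P' := Submodule.span_le.mpr (by rintro _ ⟨v, hv, rfl⟩; exact hpre₁ v hv) hp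
  obtain ⟨hq1, hq2⟩ := sub_mem hY hpP
  set q := ((r, Y) : (ι → K) × (ι → K)) - p with hq
  have hker : ∀ t, Z q t = 0 := fun t => by rw [hq, map_sub, hpZ, sub_self]; rfl
  refine Submodule.mem_sup.mpr ⟨p.1 + x₁, Submodule.add_mem_sup ?_ hx₁, q.1, ⟨(↑(w o)⁻¹ : K) * q.2 o, fun i => ?_⟩, ?_⟩
  · have : p.1 ∈ (Submodule.span A (pre '' (s : Set (ι → K ⧸ cI)))).map (LinearMap.fst A _ _) :=
      Submodule.mem_map_of_mem hp
    rwa [Submodule.map_span, ← Set.image_comp] at this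
  · have hk := hker i
    rw [hZapp, Submodule.mkQ_apply, Submodule.Quotient.mk_eq_zero] at hk
    obtain ⟨c, hc⟩ := hk
    change φ f * c = _ at hc
    refine S.onM_of_pow_mul (i := i) dvd_rfl (l := L) ?_
    refine (hq2 i i).congr (d := (↑ws⁻¹ : K) * (↑(w o)⁻¹ : K) * c) ?_
    have h1' := (w o).inv_mul
    have h2' := ws.inv_mul
    have h3 := (G 0 i).mul_inv
    have hwi : (↑(w i) : K) = algebraMap A K (a i) ^ L * (G 0 i : K) := by
      simp [w, Units.val_mul]
    simp only [φ] at hc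
    simp only [Units.val_mul, pow_one] at *
    linear_combination -((↑(w o)⁻¹ : K) * (↑ws⁻¹ : K)) * hc - q.2 i * h1' -
      ((↑(w o)⁻¹ : K) * ↑(w o) * q.2 i - (↑(w o)⁻¹ : K) * ↑(w i) * q.2 o) * h2' +
      ((↑(w o)⁻¹ : K) * q.2 o - ↑(G 0 i)⁻¹ * q.1 i) * hwi - algebraMap A K (a i) ^ L * q.1 i * h3
  · simp only [hq, hr_def, Prod.fst_sub]; abel


/-- Finiteness of sections modulo `f`. -/
theorem sec0_fg [Finite ι] (hG : FormalLine f a G) (hg : GlobFG f a K) (o : ι) :
    ∃ N : Submodule A K, N.FG ∧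
      ∀ x : K, IsSec f a G 0 x → ∃ y ∈ N, ∃ r : K, x = y + algebraMap A K f * r := by
  choose u hu e he using hG.compat 0
  obtain ⟨L, z, hz⟩ := exists_uniform (fun t : ι × ι => a t.1 * a t.2) (fun t => u t.1 t.2)
    fun t => hu t.1 t.2
  let w : Kˣ := ((S.isUnit_a (K := K) o).pow L).unit * G 0 o
  obtain ⟨Ng, hNg, hglob⟩ := hg
  refine ⟨Ng.map (LinearMap.mulLeft A (↑w⁻¹ : K)), hNg.map _, fun x hx => ?_⟩
  obtain ⟨n, hn, r, hr⟩ := hglob ((w : K) * x) fun i => by
    have h1 : OnM f 1 (a i) ((↑(w * (G 0 i)⁻¹) : K)) := by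
      refine ⟨algebraMap A K (a o) ^ L * u o i, ⟨L, z (o, i), ?_⟩, algebraMap A K (a o) ^ L * e o i, ?_⟩
      · rw [← hz (o, i), map_mul]; ring
      · have := he o i
        simp only [Units.val_mul] at this
        simp only [w, Units.val_mul, IsUnit.unit_spec, zero_add] at this ⊢
        linear_combination algebraMap A K (a o) ^ L * this
    have h2 := h1.mul (hx i)
    rwa [← mul_assoc, ← Units.val_mul, inv_mul_cancel_right] at h2
  refine ⟨↑w⁻¹ * n, Submodule.mem_map_of_mem hn, ↑w⁻¹ * r, ?_⟩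
  have := w.inv_mul
  linear_combination (↑w⁻¹ : K) * hr - x * this

variable (f a G) in
omit S [IsLocalization T K] in
/-- Coherent sequences of sections. -/
def Seq : Submodule A (ℕ → K) where
  carrier := {x | (∀ m, IsSec f a G m (x m)) ∧
    ∀ m, ∃ d, x (m + 1) = x m + algebraMap A K f ^ (m + 1) * d}
  add_mem' := fun {x y} hx hy => ⟨fun m i => by
      convert (hx.1 m i).add (hy.1 m i) using 1
      simp only [Pi.add_apply]; ring, fun m => by
      obtain ⟨d, hd⟩ := hx.2 m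
      obtain ⟨d', hd'⟩ := hy.2 m
      exact ⟨d + d', by simp only [Pi.add_apply, hd, hd']; ring⟩⟩
  zero_mem' := ⟨fun m i => by simp [OnM.zero], fun m => ⟨0, by simp⟩⟩
  smul_mem' := fun c x hx => ⟨fun m => (hx.1 m).smul c, fun m => by
    obtain ⟨d, hd⟩ := hx.2 m
    exact ⟨c • d, by simp only [Pi.smul_apply, hd, smul_add, mul_smul_comm]⟩⟩

variable (f K) in
omit S [IsLocalization T K] in
/-- Null sequences. -/
def Nul : Submodule A (ℕ → K) where
  carrier := {x | ∀ m, ∃ d, x m = algebraMap A K f ^ (m + 1) * d}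
  add_mem' := fun {x y} hx hy m => by
    obtain ⟨d, hd⟩ := hx m
    obtain ⟨d', hd'⟩ := hy m
    exact ⟨d + d', by simp only [Pi.add_apply, hd, hd']; ring⟩
  zero_mem' := fun m => ⟨0, by simp⟩
  smul_mem' := fun c x hx m => by
    obtain ⟨d, hd⟩ := hx m
    exact ⟨c • d, by simp only [Pi.smul_apply, hd, mul_smul_comm]⟩

omit S [IsLocalization T K] in
theorem sub_level_zero {x : ℕ → K} (hx : x ∈ Seq f a G) :
    ∀ m, ∃ d, x m = x 0 + algebraMap A K f * d
  | 0 => ⟨0, by simp⟩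
  | m + 1 => by
    obtain ⟨d, hd⟩ := sub_level_zero hx m
    obtain ⟨d', hd'⟩ := hx.2 m
    exact ⟨d + algebraMap A K f ^ m * d', by rw [hd', hd]; ring⟩

theorem mem_nul_of_f_smul {x : ℕ → K} (hx : x ∈ Seq f a G) (h : f • x ∈ Nul f K) : x ∈ Nul f K := by
  intro m
  obtain ⟨d, hd⟩ := h (m + 1)
  rw [Pi.smul_apply, Algebra.smul_def, pow_succ', mul_assoc] at hd
  obtain ⟨d', hd'⟩ := hx.2 m
  exact ⟨d - d', by linear_combination S.f_cancel (K := K) hd - hd'⟩

theorem exists_div (hG : FormalLine f a G) {x : ℕ → K} (hx : x ∈ Seq f a G)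
    (h0 : ∃ d, x 0 = algebraMap A K f * d) : ∃ y ∈ Seq f a G, x - f • y ∈ Nul f K := by
  have h : ∀ m, ∃ d, x m = algebraMap A K f * d := fun m => by
    obtain ⟨d, hd⟩ := h0
    obtain ⟨d', hd'⟩ := sub_level_zero hx m
    exact ⟨d + d', by rw [hd', hd, mul_add]⟩
  choose y hy using h
  refine ⟨fun m => y (m + 1), ⟨fun m i => ?_, fun m => ?_⟩, fun m => ?_⟩
  · obtain ⟨r, hr⟩ := hG.cong m i
    have h1 := hx.1 (m + 1) i
    rw [hy, mul_left_comm] at h1
    refine (S.onM_div dvd_rfl h1).congr (d := -((G m i : K) * r * y (m + 1))) ?_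
    rw [hr]; ring
  · obtain ⟨d, hd⟩ := hx.2 (m + 1)
    refine ⟨d, S.f_cancel (K := K) ?_⟩
    rw [mul_add, ← hy, ← hy, hd]; ring
  · obtain ⟨d, hd⟩ := hx.2 m
    refine ⟨-d, ?_⟩
    simp only [Pi.sub_apply, Pi.smul_apply]
    rw [Algebra.smul_def, ← hy, hd]
    ring

/-- Lifting a section near a chart. -/
theorem exists_gen [IsNoetherianRing A] [Finite ι] (hG : FormalLine f a G) (hg : GlobFG f a K)
    (h1 : AddFG f a K) (k : ι) : ∃ (L : ℕ) (X : ℕ → K), X ∈ Seq f a G ∧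
      ∃ d, X 0 = algebraMap A K (a k) ^ L * (↑(G 0 k)⁻¹ : K) + algebraMap A K f * d := by
  obtain ⟨L, hy⟩ := isSec_base S hG k
  obtain ⟨L', X, hX, hXc, d, hd⟩ := exists_coherent S hG (cocycle_fg' S hG hg h1 k) hy k
  exact ⟨L' + L, X, ⟨hX, hXc⟩, d, by rw [hd]; ring⟩

/-- The module of formal sections is finite. -/
theorem seq_fg [IsNoetherianRing A] [Finite ι] [IsAdicComplete (Ideal.span {f}) A]
    (hG : FormalLine f a G) (hg : GlobFG f a K) (o : ι) :
    ∃ (n : ℕ) (v : Fin n → ℕ → K), (∀ j, v j ∈ Seq f a G) ∧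
      ∀ x ∈ Seq f a G, ∃ c : Fin n → A, x - ∑ j, c j • v j ∈ Nul f K := by
  obtain ⟨N0, hN0, hsec⟩ := sec0_fg S hG hg o
  let Γ : Submodule A (K ⧸ Mf f K) := N0.map pf
  have : Module.Finite A Γ := Module.Finite.iff_fg.mpr (hN0.map _)
  let Λ : Seq f a G →ₗ[A] Γ := ((pf (f := f)).comp ((LinearMap.proj 0).comp (Seq f a G).subtype)).codRestrict Γ
    fun x => by
      obtain ⟨y, hy, r, hr⟩ := hsec _ (x.2.1 0)
      exact ⟨y, hy, (pf_eq_iff.mpr ⟨r, hr⟩).symm⟩
  obtain ⟨N, hN, hcompl⟩ := exists_fg_complement (P := Seq f a G) (H := Γ) Λ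
  obtain ⟨n, v, hv⟩ := Submodule.fg_iff_exists_fin_generating_family.mp hN
  have hstep : ∀ x : Seq f a G, ∃ (c : Fin n → A) (y : Seq f a G),
      (x : ℕ → K) - ∑ j, c j • (v j : ℕ → K) - f • (y : ℕ → K) ∈ Nul f K := by
    intro x
    obtain ⟨p, hp, hpz⟩ := hcompl x
    obtain ⟨c, hc⟩ := (Submodule.mem_span_range_iff_exists_fun A).mp (hv ▸ hp)
    have h0 : pf (f := f) (((x - p : Seq f a G) : ℕ → K) 0) = pf 0 := by
      rw [map_zero]
      exact congrArg Subtype.val hpz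
    obtain ⟨r, hr⟩ := pf_eq_iff.mp h0
    obtain ⟨y, hy, hxy⟩ := exists_div S hG (x - p : Seq f a G).2 ⟨r, by rw [hr, zero_add]⟩
    refine ⟨c, ⟨y, hy⟩, ?_⟩
    rw [← hc] at hxy
    simpa using hxy
  choose c y hy using hstep
  refine ⟨n, fun j => v j, fun j => (v j).2, fun x hx => ?_⟩
  let xs : ℕ → Seq f a G := fun s => Nat.rec ⟨x, hx⟩ (fun _ z => y z) s
  let C : ℕ → Fin n → A := fun s j => ∑ r ∈ Finset.range s, f ^ r * c (xs r) j
  have hC : ∀ s, x - ∑ j, C s j • (v j : ℕ → K) - f ^ s • (Subtype.val (xs s)) ∈ Nul f K := by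
    intro s
    induction s with
    | zero => simp [C, xs]
    | succ s ih =>
      have h2 := add_mem ih (Submodule.smul_mem _ (f ^ s) (hy (xs s)))
      convert h2 using 1
      simp only [C, Finset.sum_range_succ, add_smul, Finset.sum_add_distrib, smul_sub, Finset.smul_sum,
        smul_smul, show xs (s + 1) = y (xs s) from rfl, pow_succ]
      abel
  have hlim : ∀ j, ∃ l, ∀ s, f ^ s ∣ C s j - l := fun j => by
    obtain ⟨l, hl⟩ := IsPrecomplete.prec (I := Ideal.span {f}) (M := A) inferInstance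
      (f := fun s => C s j) (by
        intro p q hpq
        rw [SModEq.sub_mem, Ideal.span_singleton_pow, mem_smul_top_self, Ideal.mem_span_singleton]
        simp only [C]
        rw [← Finset.sum_range_add_sum_Ico _ hpq, sub_add_cancel_left, dvd_neg]
        exact Finset.dvd_sum fun r hr => (pow_dvd_pow f (Finset.mem_Ico.mp hr).1).mul_right _)
    refine ⟨l, fun s => ?_⟩
    have := hl s
    rwa [SModEq.sub_mem, Ideal.span_singleton_pow, mem_smul_top_self, Ideal.mem_span_singleton] at this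
  choose l hl using hlim
  refine ⟨l, fun m => ?_⟩
  obtain ⟨d, hd⟩ := hC (m + 1) m
  choose q hq using fun j => hl j (m + 1)
  refine ⟨d + (Subtype.val (xs (m + 1))) m + ∑ j, algebraMap A K (q j) * (v j : ℕ → K) m, ?_⟩
  have hq' : ∀ j, algebraMap A K (C (m + 1) j) * (v j : ℕ → K) m - algebraMap A K (l j) * (v j : ℕ → K) m =
      algebraMap A K f ^ (m + 1) * (algebraMap A K (q j) * (v j : ℕ → K) m) := fun j => by
    rw [← sub_mul, ← map_sub, hq, map_mul, map_pow, mul_assoc]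
  have hs := Finset.sum_congr rfl fun j (_ : j ∈ Finset.univ) => hq' j
  simp only [Pi.sub_apply, Finset.sum_apply, Pi.smul_apply] at hd ⊢
  simp only [Algebra.smul_def, map_pow, Finset.sum_sub_distrib, ← Finset.mul_sum] at hd hs ⊢
  linear_combination hd + hs

/-- The module of formal sections is free of rank one along the charts. -/
theorem exists_chart_seq [IsNoetherianRing A] [Finite ι] [IsAdicComplete (Ideal.span {f}) A]
    (hG : FormalLine f a G) (hg : GlobFG f a K) (h1 : AddFG f a K) (k : ι) :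
    ∃ (e : ℕ → K) (b : A) (N L : ℕ), e ∈ Seq f a G ∧ f ∣ b - a k ^ N ∧
      (∀ x ∈ Seq f a G, ∃ c : A, b • x - c • e ∈ Nul f K) ∧
      (∀ c : A, c • e ∈ Nul f K → b * c = 0) ∧
      ∃ d, e 0 = algebraMap A K (a k) ^ L * (↑(G 0 k)⁻¹ : K) + algebraMap A K f * d := by
  classical
  obtain ⟨L, e, he, d, hd⟩ := exists_gen S hG hg h1 k
  obtain ⟨n, v, hv, hvgen⟩ := seq_fg S hG hg k
  have he0 : IsUnit (e 0) := by
    rw [hd]
    exact S.isUnit_add (((S.isUnit_a k).pow _).mul (Units.isUnit _)) d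
  -- generation
  let Nl : Submodule A (Seq f a G) := (Nul f K).comap (Seq f a G).subtype ⊔ Submodule.span A {⟨e, he⟩}
  let Q := (Seq f a G) ⧸ Nl
  have hfin : Module.Finite A Q := ⟨⟨Finset.univ.image fun j => Nl.mkQ ⟨v j, hv j⟩, by
      rw [eq_top_iff]
      rintro q -
      obtain ⟨⟨x, hx⟩, rfl⟩ := Nl.mkQ_surjective q
      obtain ⟨c, hc⟩ := hvgen x hx
      have h3 : Nl.mkQ ⟨x, hx⟩ = Nl.mkQ (∑ j, c j • ⟨v j, hv j⟩) := by
        rw [Submodule.mkQ_apply, Submodule.mkQ_apply, Submodule.Quotient.eq]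
        exact Submodule.mem_sup_left (by simpa using hc)
      rw [h3, map_sum]
      refine sum_mem fun j _ => ?_
      rw [map_smul]
      exact Submodule.smul_mem _ _ (Submodule.subset_span (by simp))⟩⟩
  have hmul : ∀ q : Q, ∃ l, a k ^ l • q ∈ Ideal.span {f} • (⊤ : Submodule A Q) := by
    intro q
    obtain ⟨⟨x, hx⟩, rfl⟩ := Nl.mkQ_surjective q
    obtain ⟨p, ⟨l, z, hz⟩, r, hr⟩ := hx.1 0 k
    obtain ⟨y, hy, hxy⟩ := exists_div S hG
      (sub_mem (Submodule.smul_mem _ (a k ^ (l + L)) hx) (Submodule.smul_mem _ z he))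
      ⟨algebraMap A K (a k) ^ (l + L) * (↑(G 0 k)⁻¹ : K) * r - algebraMap A K z * d, by
        have e1 := (G 0 k).inv_mul
        simp only [Pi.sub_apply, Pi.smul_apply] at hr ⊢
        simp only [Algebra.smul_def, map_pow, zero_add, pow_one] at hr ⊢
        rw [hd]
        linear_combination (-(algebraMap A K (a k) ^ (l + L) * x 0)) * e1 +
          (algebraMap A K (a k) ^ (l + L) * (↑(G 0 k)⁻¹ : K)) * hr +
          (algebraMap A K (a k) ^ L * (↑(G 0 k)⁻¹ : K)) * hz⟩
    refine ⟨l + L, ?_⟩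
    have h2 : a k ^ (l + L) • Nl.mkQ ⟨x, hx⟩ = f • Nl.mkQ ⟨y, hy⟩ := by
      rw [← map_smul, ← map_smul, Submodule.mkQ_apply, Submodule.mkQ_apply, Submodule.Quotient.eq]
      refine Submodule.mem_sup.mpr ⟨⟨a k ^ (l + L) • x - z • e - f • y, sub_mem (sub_mem
        (Submodule.smul_mem _ _ hx) (Submodule.smul_mem _ _ he)) (Submodule.smul_mem _ _ hy)⟩, hxy,
        z • ⟨e, he⟩, Submodule.smul_mem _ _ (Submodule.mem_span_singleton_self _), ?_⟩
      ext1
      simp
      abel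
    rw [h2]
    exact Submodule.smul_mem_smul (Ideal.mem_span_singleton_self f) trivial
  obtain ⟨b₁, N₁, hb₁, hb₁Q⟩ := exists_mul_zero (a k) f hmul
  -- no torsion
  let I : Ideal A := LinearMap.ker ((LinearMap.toSpanSingleton A _ ((Nul f K).mkQ e)))
  have hI : ∀ {c : A}, c ∈ I ↔ c • e ∈ Nul f K := fun {c} => by
    rw [LinearMap.mem_ker, LinearMap.toSpanSingleton_apply, ← map_smul, Submodule.mkQ_apply,
      Submodule.Quotient.mk_eq_zero]
  obtain ⟨b₂, N₂, hb₂, hb₂I⟩ := exists_mul_zero (M := I) (a k) f fun ⟨c, hc⟩ => by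
    obtain ⟨r, hr⟩ := hI.mp hc 0
    rw [Pi.smul_apply, Algebra.smul_def, zero_add, pow_one] at hr
    obtain ⟨v', hv'⟩ := he0
    obtain ⟨l, w, hw⟩ := S.exists_pow_dvd (n := 1) (K := K) (z := c) (r := r * ↑v'⁻¹) (by
      rw [pow_one, ← mul_assoc, ← hr, ← hv', Units.mul_inv_cancel_right]) k
    rw [pow_one] at hw
    have hw2 : f • (w • e) ∈ Nul f K := by
      rw [smul_smul, ← hw, mul_smul]
      exact Submodule.smul_mem _ _ (hI.mp hc)
    refine ⟨l, ?_⟩
    rw [show a k ^ l • (⟨c, hc⟩ : I) = f • ⟨w, hI.mpr (mem_nul_of_f_smul S (G := G)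
      (Submodule.smul_mem _ w he) hw2)⟩ from Subtype.ext hw]
    exact Submodule.smul_mem_smul (Ideal.mem_span_singleton_self f) trivial
  refine ⟨e, b₁ * b₂, N₁ + N₂, L, he, ?_, fun x hx => ?_, fun c hc => ?_, d, hd⟩
  · rw [pow_add, show b₁ * b₂ - a k ^ N₁ * a k ^ N₂ =
      (b₁ - a k ^ N₁) * b₂ + a k ^ N₁ * (b₂ - a k ^ N₂) by ring]
    exact dvd_add (hb₁.mul_right _) (hb₂.mul_left _)
  · have h := hb₁Q (Nl.mkQ ⟨x, hx⟩)
    rw [← map_smul, Submodule.mkQ_apply, Submodule.Quotient.mk_eq_zero] at h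
    obtain ⟨n', hn', z', hz', hsum⟩ := Submodule.mem_sup.mp h
    obtain ⟨c, rfl⟩ := Submodule.mem_span_singleton.mp hz'
    refine ⟨b₂ * c, ?_⟩
    rw [mul_comm b₁, mul_smul, mul_smul, ← smul_sub]
    refine Submodule.smul_mem _ _ ?_
    have h2 := congrArg Subtype.val hsum
    simp only [Submodule.coe_add, SetLike.val_smul] at h2
    rw [← h2, add_sub_cancel_right]
    exact hn'
  · have h := congrArg Subtype.val (hb₂I ⟨c, hI.mpr hc⟩)
    simp only [SetLike.val_smul, smul_eq_mul, ZeroMemClass.coe_zero] at h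
    rw [mul_assoc, h, mul_zero]

end Groth.Agent.H80.Divisor.Weak
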